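import Mathlib.NumberTheory.NumberField.Completion.FinitePlace
import Mathlib.RingTheory.AdicCompletion.Noetherian
import Mathlib.RingTheory.Henselian

/-!
# The ring of integers of an adic completion of a number field is henselian
-/

set_option autoImplicit false

open NumberField IsDedekindDomain

namespace Groth.L11.AdicHensel

universe u
variable {k : Type u} [Field k] [NumberField k] (v : HeightOneSpectrum (RingOfIntegers k))

local notation "𝒪v" => v.adicCompletionIntegers k

open IsLocalRing in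
instance isAdicComplete : IsAdicComplete (maximalIdeal 𝒪v) 𝒪v := by
  haveI : IsPrecomplete (maximalIdeal 𝒪v) 𝒪v := ⟨fun f hf ↦ ?_⟩
  · exact {}
  obtain ⟨ϖ, hϖ⟩ := IsDiscreteValuationRing.exists_irreducible 𝒪v
  have hm : ∀ n, (maximalIdeal 𝒪v ^ n • ⊤ : Submodule 𝒪v 𝒪v) = Ideal.span {ϖ ^ n} := fun n ↦ by
    rw [smul_eq_mul, Ideal.mul_top, hϖ.maximalIdeal_eq, Ideal.span_singleton_pow]
  have hϖ0 : (ϖ : v.adicCompletion k) ≠ 0 := fun h ↦ hϖ.ne_zero (Subtype.ext h)
  have hle : Valued.v (ϖ : v.adicCompletion k) ≤ WithZero.exp (-1 : ℤ) := by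
    have h1 : Valued.v (ϖ : v.adicCompletion k) < 1 := lt_of_le_of_ne ϖ.2 fun h ↦
      hϖ.not_isUnit (HeightOneSpectrum.adicCompletionIntegers.isUnit_iff_valued_eq_one.2 h)
    have hv0 : Valued.v (ϖ : v.adicCompletion k) ≠ 0 := (Valuation.ne_zero_iff _).2 hϖ0
    rw [← WithZero.exp_log hv0, ← WithZero.exp_zero, WithZero.exp_lt_exp] at h1
    rw [← WithZero.exp_log hv0, WithZero.exp_le_exp]
    omega
  have hmem : ∀ n, ∀ x : 𝒪v, Valued.v (x : v.adicCompletion k) ≤ Valued.v (ϖ : v.adicCompletion k) ^ n ↔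
      x ∈ Ideal.span {ϖ ^ n} := fun n x ↦ by
    rw [Ideal.mem_span_singleton', ← map_pow]
    constructor
    · intro h
      refine ⟨⟨(x : v.adicCompletion k) / (ϖ : v.adicCompletion k) ^ n, ?_⟩, Subtype.ext ?_⟩
      · rw [HeightOneSpectrum.mem_adicCompletionIntegers, map_div₀]
        exact (div_le_one₀ (zero_lt_iff.2 ((Valuation.ne_zero_iff _).2 (pow_ne_zero _ hϖ0)))).2 h
      · simp [div_mul_cancel₀ _ (pow_ne_zero _ hϖ0)]
    · rintro ⟨a, rfl⟩
      simpa using mul_le_of_le_one_left' a.2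
  have hdiff : ∀ {m n}, m ≤ n → Valued.v ((f n : v.adicCompletion k) - f m) ≤
      Valued.v (ϖ : v.adicCompletion k) ^ m := fun {m n} h ↦ by
    have := (SModEq.sub_mem.1 (hf h))
    rw [hm, ← hmem] at this
    rw [Valuation.map_sub_swap]
    exact this
  let g : ℕ → v.adicCompletion k := fun n ↦ f n
  have hg : CauchySeq g := by
    refine Valued.cauchy_iff.2 ⟨Filter.map_neBot, fun γ ↦ ?_⟩
    have hγ : MonoidWithZeroHom.ValueGroup₀.embedding γ.1 ≠ 0 := (map_ne_zero _).2 γ.ne_zero
    obtain ⟨N, hN⟩ : ∃ N : ℕ, Valued.v (ϖ : v.adicCompletion k) ^ N <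
        MonoidWithZeroHom.ValueGroup₀.embedding γ.1 := by
      refine ⟨(-(WithZero.log (MonoidWithZeroHom.ValueGroup₀.embedding γ.1)) + 1).toNat, ?_⟩
      refine (pow_le_pow_left₀ zero_le' hle _).trans_lt ?_
      rw [← WithZero.exp_nsmul]
      refine lt_of_lt_of_eq (WithZero.exp_lt_exp.2 ?_) (WithZero.exp_log hγ)
      simp only [nsmul_eq_mul]; omega
    refine ⟨g '' Set.Ici N, Filter.image_mem_map (Filter.Ici_mem_atTop N), ?_⟩
    rintro _ ⟨a, ha, rfl⟩ _ ⟨b, hb, rfl⟩
    rw [Valuation.restrict_lt_iff_lt_embedding]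
    refine lt_of_le_of_lt ?_ hN
    rw [show g b - g a = (g b - g N) + (g N - g a) by abel]
    refine (Valuation.map_add _ _ _).trans (max_le (hdiff hb) ?_)
    rw [Valuation.map_sub_swap]
    exact hdiff ha
  obtain ⟨L, hL⟩ := cauchySeq_tendsto_of_complete hg
  have hclosed : ∀ n, Valued.v (L - g n) ≤ Valued.v (ϖ : v.adicCompletion k) ^ n := fun n ↦ by
    have hc : IsClosed {x : v.adicCompletion k | Valued.v (x - g n) ≤
        Valued.v (ϖ : v.adicCompletion k) ^ n} := by
      have := (Valued.isClosed_closedBall (v.adicCompletion k)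
        (Valued.v.restrict ((ϖ : v.adicCompletion k) ^ n))).preimage
        (continuous_id.sub (continuous_const (y := g n)))
      convert this using 1
      ext x
      show Valued.v (x - g n) ≤ Valued.v (ϖ : v.adicCompletion k) ^ n ↔
        Valued.v.restrict (x - g n) ≤ Valued.v.restrict ((ϖ : v.adicCompletion k) ^ n)
      rw [Valuation.restrict_le_iff, map_pow]
    exact hc.mem_of_tendsto hL (Filter.eventually_atTop.2 ⟨n, fun b hb ↦ hdiff hb⟩)
  have hLint : L ∈ v.adicCompletionIntegers k := by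
    have := hclosed 0
    rw [pow_zero] at this
    rw [← sub_add_cancel L (g 0), HeightOneSpectrum.mem_adicCompletionIntegers]
    exact (Valuation.map_add _ _ _).trans (max_le this (f 0).2)
  refine ⟨⟨L, hLint⟩, fun n ↦ SModEq.sub_mem.2 ?_⟩
  rw [hm, ← hmem]
  show Valued.v (g n - L) ≤ _
  rw [Valuation.map_sub_swap]
  exact hclosed n

/-- Hensel's lemma at a simple root modulo the maximal ideal, starting from `0`. -/
theorem exists_simple_root (χ : Polynomial (v.adicCompletion k)) (hmonic : χ.Monic)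
    (hint : ∀ i, Valued.v (χ.coeff i) ≤ 1) (h0 : Valued.v (χ.coeff 0) < 1)
    (h1 : Valued.v (χ.coeff 1) = 1) :
    ∃ r : v.adicCompletion k, χ.IsRoot r ∧ Polynomial.rootMultiplicity r χ = 1 := by
  have hlift : χ ∈ Polynomial.lifts (algebraMap 𝒪v (v.adicCompletion k)) :=
    (Polynomial.lifts_iff_coeff_lifts χ).2 fun i ↦ ⟨⟨_, hint i⟩, rfl⟩
  obtain ⟨χ', hχ', -, hmon'⟩ := Polynomial.lifts_and_degree_eq_and_monic hlift hmonic
  have hc : ∀ i, ((χ'.coeff i : 𝒪v) : v.adicCompletion k) = χ.coeff i := fun i ↦ by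
    rw [← hχ', Polynomial.coeff_map]; rfl
  obtain ⟨r, hr, hr0⟩ := HenselianRing.is_henselian (I := IsLocalRing.maximalIdeal 𝒪v) χ' hmon' 0
    (by
      rw [← Polynomial.coeff_zero_eq_eval_zero, IsLocalRing.mem_maximalIdeal, mem_nonunits_iff,
        HeightOneSpectrum.adicCompletionIntegers.isUnit_iff_valued_eq_one, hc]
      exact h0.ne)
    (by
      refine IsUnit.map _ ?_
      rw [← Polynomial.coeff_zero_eq_eval_zero, Polynomial.coeff_derivative,
        HeightOneSpectrum.adicCompletionIntegers.isUnit_iff_valued_eq_one]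
      simpa [hc] using h1)
  refine ⟨r, ?_, ?_⟩
  · have := congrArg (algebraMap 𝒪v (v.adicCompletion k)) hr.eq_zero
    rw [map_zero, ← Polynomial.eval_map_apply, hχ'] at this
    exact this
  · have hroot : χ.IsRoot (r : v.adicCompletion k) := by
      have := congrArg (algebraMap 𝒪v (v.adicCompletion k)) hr.eq_zero
      rw [map_zero, ← Polynomial.eval_map_apply, hχ'] at this
      exact this
    have hd : ¬ (χ.derivative).IsRoot (r : v.adicCompletion k) := by
      intro hd
      have hu : IsUnit (χ'.derivative.eval r) := by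
        have h00 : IsUnit (χ'.derivative.eval 0) := by
          rw [← Polynomial.coeff_zero_eq_eval_zero, Polynomial.coeff_derivative,
            HeightOneSpectrum.adicCompletionIntegers.isUnit_iff_valued_eq_one]
          simpa [hc] using h1
        refine IsLocalRing.notMem_maximalIdeal.1 fun hm ↦ IsLocalRing.notMem_maximalIdeal.2 h00 ?_
        have := Polynomial.sub_dvd_eval_sub r 0 χ'.derivative
        have h2 := Ideal.mem_of_dvd _ this hr0
        simpa using Ideal.sub_mem _ hm h2
      refine hu.ne_zero (Subtype.ext ?_)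
      show algebraMap 𝒪v (v.adicCompletion k) _ = 0
      rw [← Polynomial.eval_map_apply, ← Polynomial.derivative_map, hχ']
      exact hd
    have hne : χ ≠ 0 := hmonic.ne_zero
    refine le_antisymm ?_ ((Polynomial.rootMultiplicity_pos hne).2 hroot)
    by_contra hlt
    exact hd ((Polynomial.one_lt_rootMultiplicity_iff_isRoot hne).1 (not_le.1 hlt)).2

end Groth.L11.AdicHensel
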