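import Groth.Agent.L11.NF.StrongApprox
import Groth.Agent.L22.AffineDim
import Mathlib.RingTheory.DedekindDomain.FiniteAdeleRing
import Mathlib.Topology.Algebra.MvPolynomial
import Mathlib.Algebra.MvPolynomial.Funext
import Mathlib.RingTheory.Ideal.MinimalPrime.Localization

/-!
# Preparations for strong approximation off a codimension two subset of affine space
-/

set_option autoImplicit false

open NumberField IsDedekindDomain

namespace Groth.L11.CodimTwo

universe u

/-- If `A` is a finitely generated algebra over a field with `dim A + 2 ≤ n`, then a polynomial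
algebra in `n` variables does not embed in `A[X]`. -/
lemma not_injective {k : Type u} [Field k] {n : ℕ} (A : Type u) [CommRing A] [Algebra k A]
    [Algebra.FiniteType k A] (hA : ringKrullDim A + 2 ≤ (n : WithBot ℕ∞))
    (φ : MvPolynomial (Fin n) k →ₐ[k] Polynomial A) : ¬ Function.Injective φ := by
  intro hinj
  haveI : IsNoetherianRing A := Algebra.FiniteType.isNoetherianRing k A
  haveI : Algebra.FiniteType k (Polynomial A) :=
    Algebra.FiniteType.trans (S := A) inferInstance inferInstance
  obtain ⟨q, hq, hcomap⟩ := Ideal.exists_comap_eq_of_mem_minimalPrimes_of_injective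
    (f := φ.toRingHom) hinj ⊥ (by simp [IsDomain.minimalPrimes_eq_singleton_bot])
  obtain ⟨d, g, hg, -, hdim, htr⟩ :=
    Groth.L22.AffineDim.exists_normalization k (Polynomial A ⧸ q)
  have hi : Function.Injective ((Ideal.Quotient.mkₐ k q).comp φ) := by
    rw [injective_iff_map_eq_zero]
    intro x hx
    have : x ∈ q.comap φ.toRingHom := by simpa [Ideal.Quotient.eq_zero_iff_mem] using hx
    rwa [hcomap, Ideal.mem_bot] at this
  have h := trdeg_le_of_injective _ hi
  rw [MvPolynomial.trdeg_of_isDomain, htr] at h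
  have hnd : n ≤ d := by simpa using h
  have hle : (n : WithBot ℕ∞) ≤ ringKrullDim A + 1 := by
    rw [← Polynomial.ringKrullDim_of_isNoetherianRing]
    exact (Nat.mono_cast hnd).trans (hdim ▸ ringKrullDim_quotient_le q)
  revert hA hle
  generalize ringKrullDim A = x
  induction x using WithBot.recBotCoe with
  | bot => intro _ h; simp at h
  | coe a =>
    induction a using ENat.recTopCoe with
    | top =>
      intro h _
      have h' : (⊤ : ℕ∞) + 2 ≤ (n : ℕ∞) := WithBot.coe_le_coe.1 h
      simp at h'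
    | coe a =>
      intro h1 h2
      have h1'' : (a : ℕ∞) + 2 ≤ (n : ℕ∞) := WithBot.coe_le_coe.1 h1
      have h2'' : (n : ℕ∞) ≤ (a : ℕ∞) + 1 := WithBot.coe_le_coe.1 h2
      have h1' : a + 2 ≤ n := by exact_mod_cast h1''
      have h2' : n ≤ a + 1 := by exact_mod_cast h2''
      omega

variable {k : Type u} [Field k] [NumberField k]

local notation "HOS" => HeightOneSpectrum (RingOfIntegers k)

section Valuation

variable {L : Type*} [Field L] [Algebra k L] {Γ : Type*} [LinearOrderedCommGroupWithZero Γ]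
  (val : Valuation L Γ) (hval : ∀ r : 𝓞 k, val (algebraMap k L (r : k)) ≤ 1)
  {σ : Type*}

include hval in
lemma val_aeval_le_one (f : MvPolynomial σ (𝓞 k)) (x : σ → L) (hx : ∀ i, val (x i) ≤ 1) :
    val (MvPolynomial.aeval x (MvPolynomial.map (algebraMap (𝓞 k) k) f)) ≤ 1 := by
  induction f using MvPolynomial.induction_on with
  | C a => simpa using hval a
  | add p q hp hq => simpa using (val.map_add _ _).trans (max_le hp hq)
  | mul_X p i hp => simpa using mul_le_one' hp (hx i)

include hval in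
lemma val_aeval_sub_lt_one (f : MvPolynomial σ (𝓞 k)) (x y : σ → L) (hx : ∀ i, val (x i) ≤ 1)
    (hy : ∀ i, val (y i) ≤ 1) (hxy : ∀ i, val (x i - y i) < 1) :
    val (MvPolynomial.aeval x (MvPolynomial.map (algebraMap (𝓞 k) k) f) -
      MvPolynomial.aeval y (MvPolynomial.map (algebraMap (𝓞 k) k) f)) < 1 := by
  induction f using MvPolynomial.induction_on with
  | C a => simp
  | add p q hp hq =>
    simp only [map_add]
    rw [add_sub_add_comm]
    exact val.map_add_lt hp hq
  | mul_X p i hp =>
    simp only [map_mul, MvPolynomial.map_X, MvPolynomial.aeval_X]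
    set a := MvPolynomial.aeval x (MvPolynomial.map (algebraMap (𝓞 k) k) p)
    set b := MvPolynomial.aeval y (MvPolynomial.map (algebraMap (𝓞 k) k) p)
    rw [show a * x i - b * y i = a * (x i - y i) + (a - b) * y i by ring]
    refine val.map_add_lt ?_ ?_
    · rw [map_mul]
      exact (mul_le_of_le_one_left' (val_aeval_le_one val hval p x hx)).trans_lt (hxy i)
    · rw [map_mul]
      exact (mul_le_of_le_one_right' (hy i)).trans_lt hp

include hval in
lemma val_eq_one_of_congr (f : MvPolynomial σ (𝓞 k)) (x y : σ → L) (hx : ∀ i, val (x i) ≤ 1)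
    (hy : ∀ i, val (y i) ≤ 1) (hxy : ∀ i, val (x i - y i) < 1)
    (h : val (MvPolynomial.aeval y (MvPolynomial.map (algebraMap (𝓞 k) k) f)) = 1) :
    val (MvPolynomial.aeval x (MvPolynomial.map (algebraMap (𝓞 k) k) f)) = 1 := by
  have hlt := val_aeval_sub_lt_one val hval f x y hx hy hxy
  rw [← sub_add_cancel (MvPolynomial.aeval x (MvPolynomial.map (algebraMap (𝓞 k) k) f))
    (MvPolynomial.aeval y (MvPolynomial.map (algebraMap (𝓞 k) k) f)),
    Valuation.map_add_eq_of_lt_right _ (by rwa [h]), h]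

end Valuation

lemma valued_algebraMap (v : HOS) (x : k) :
    Valued.v (algebraMap k (v.adicCompletion k) x) = v.valuation k x :=
  HeightOneSpectrum.valuedAdicCompletion_eq_valuation' v x

lemma valued_int_le_one (v : HOS) (r : 𝓞 k) :
    Valued.v (algebraMap k (v.adicCompletion k) (r : k)) ≤ 1 := by
  rw [valued_algebraMap]; exact v.valuation_le_one r

lemma isOpen_lt_one (v : HOS) : IsOpen {x : v.adicCompletion k | Valued.v x < 1} := by
  convert Valued.isOpen_ball (v.adicCompletion k) 1 using 1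
  ext x
  exact (Valuation.restrict_lt_one_iff (v := (Valued.v : Valuation (v.adicCompletion k) _))).symm

lemma continuous_aeval {L : Type*} [CommRing L] [Algebra k L] [TopologicalSpace L] [IsTopologicalRing L]
    {σ : Type*} (F : MvPolynomial σ k) : Continuous fun x : σ → L ↦ MvPolynomial.aeval x F := by
  simp_rw [MvPolynomial.aeval_def, ← MvPolynomial.eval_map]
  exact MvPolynomial.continuous_eval _

/-- Coordinatewise strong approximation. -/
theorem vec_approx {σ : Type} [Fintype σ] (v₀ : HOS) (A : Finset HOS) (hA : v₀ ∉ A)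
    (O : (v : HOS) → Set (σ → v.adicCompletion k)) (hO : ∀ v ∈ A, IsOpen (O v) ∧ (O v).Nonempty)
    (V : (w : InfinitePlace k) → Set (σ → w.Completion)) (hV : ∀ w, IsOpen (V w) ∧ (V w).Nonempty) :
    ∃ x : σ → k, (∀ v : HOS, v ∉ A → v ≠ v₀ → ∀ i, v.valuation k (x i) ≤ 1) ∧
      (∀ v ∈ A, (fun i ↦ algebraMap k (v.adicCompletion k) (x i)) ∈ O v) ∧
      ∀ w : InfinitePlace k, (fun i ↦ algebraMap k w.Completion (x i)) ∈ V w := by
  classical
  have h1 : ∀ v : HOS, ∃ u : σ → Set (v.adicCompletion k),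
      v ∈ A → (∀ i, IsOpen (u i) ∧ (u i).Nonempty) ∧ Set.univ.pi u ⊆ O v := fun v ↦ by
    by_cases h : v ∈ A
    · obtain ⟨a, ha⟩ := (hO v h).2
      obtain ⟨u, hu, hsub⟩ := isOpen_pi_iff'.1 (hO v h).1 a ha
      exact ⟨u, fun _ ↦ ⟨fun i ↦ ⟨(hu i).1, a i, (hu i).2⟩, hsub⟩⟩
    · exact ⟨fun _ ↦ ∅, fun h' ↦ absurd h' h⟩
  choose u hu using h1
  have h2 : ∀ w : InfinitePlace k, ∃ u : σ → Set w.Completion,
      (∀ i, IsOpen (u i) ∧ (u i).Nonempty) ∧ Set.univ.pi u ⊆ V w := fun w ↦ by
    obtain ⟨a, ha⟩ := (hV w).2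
    obtain ⟨u, hu, hsub⟩ := isOpen_pi_iff'.1 (hV w).1 a ha
    exact ⟨u, fun i ↦ ⟨(hu i).1, a i, (hu i).2⟩, hsub⟩
  choose u' hu' using h2
  choose x hx using fun i ↦ StrongApprox.strong_approx v₀ A hA (fun v ↦ u v i)
    (fun v hv ↦ (hu v hv).1 i) (fun w ↦ u' w i) (fun w ↦ (hu' w).1 i)
  exact ⟨x, fun v hv hv₀ i ↦ (hx i).1 v hv hv₀, fun v hv ↦ (hu v hv).2 fun i _ ↦ (hx i).2.1 v hv,
    fun w ↦ (hu' w).2 fun i _ ↦ (hx i).2.2 w⟩

/-- Through a point outside the common zero locus `F` of the `f_j`, of codimension at least two,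
the directions of the lines meeting `F` satisfy a nontrivial polynomial equation `h`. -/
theorem exists_direction_poly {n m : ℕ} (f : Fin m → MvPolynomial (Fin n) (𝓞 k))
    (hcodim : ringKrullDim (MvPolynomial (Fin n) k ⧸ Ideal.span (Set.range fun j =>
        MvPolynomial.map (algebraMap (𝓞 k) k) (f j))) + 2 ≤ (n : WithBot ℕ∞))
    (p : Fin n → k) (j₀ : Fin m)
    (hp : MvPolynomial.aeval p (MvPolynomial.map (algebraMap (𝓞 k) k) (f j₀)) ≠ 0) :
    ∃ h : MvPolynomial (Fin n) k, h ≠ 0 ∧ ∀ D : Fin n → k, MvPolynomial.aeval D h ≠ 0 →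
      ∃ a : Fin m → Polynomial k, ∀ t : k, ∑ j, (a j).eval t *
        MvPolynomial.aeval (fun i ↦ p i + t * D i) (MvPolynomial.map (algebraMap (𝓞 k) k) (f j)) = 1 := by
  set F := fun j => MvPolynomial.map (algebraMap (𝓞 k) k) (f j) with hF
  set I := Ideal.span (Set.range F) with hI
  let A := MvPolynomial (Fin n) k ⧸ I
  let q : Fin n → A := fun i ↦ Ideal.Quotient.mk I (MvPolynomial.X i)
  let φ : MvPolynomial (Fin n) k →ₐ[k] Polynomial A :=
    MvPolynomial.aeval fun i ↦ Polynomial.X * Polynomial.C (q i - algebraMap k A (p i))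
  obtain ⟨h, hh0, hh⟩ : ∃ h, φ h = 0 ∧ h ≠ 0 := by
    have := not_injective A hcodim φ
    rw [injective_iff_map_eq_zero] at this
    push Not at this
    exact this
  refine ⟨h, hh, fun D hD ↦ ?_⟩
  let line : Fin n → Polynomial k := fun i ↦ Polynomial.C (p i) + Polynomial.X * Polynomial.C (D i)
  have htop : Ideal.span (Set.range fun j ↦ MvPolynomial.aeval line (F j)) = ⊤ := by
    by_contra hne
    obtain ⟨M, hM, hle⟩ := Ideal.exists_le_maximal _ hne
    let L := Polynomial k ⧸ M
    letI : Field L := Ideal.Quotient.field M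
    let t : L := Ideal.Quotient.mk M Polynomial.X
    let π : Polynomial k →ₐ[k] L := Ideal.Quotient.mkₐ k M
    have hline : ∀ i, π (line i) = algebraMap k L (p i) + t * algebraMap k L (D i) := fun i ↦ by
      rw [map_add, map_mul]
      rfl
    let x : Fin n → L := fun i ↦ π (line i)
    have hzero : ∀ j, MvPolynomial.aeval x (F j) = 0 := fun j ↦ by
      show MvPolynomial.aeval (fun i ↦ π (line i)) (F j) = 0
      rw [← MvPolynomial.comp_aeval_apply]
      exact Ideal.Quotient.eq_zero_iff_mem.2 (hle (Ideal.subset_span ⟨j, rfl⟩))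
    have ht : t ≠ 0 := by
      intro ht
      have hx : x = fun i ↦ algebraMap k L (p i) := funext fun i ↦ by simp [x, hline, ht]
      have := hzero j₀
      rw [hx, show (fun i ↦ algebraMap k L (p i)) = algebraMap k L ∘ p from rfl,
        MvPolynomial.aeval_algebraMap_apply, map_eq_zero] at this
      exact hp this
    let ev : A →ₐ[k] L := Ideal.Quotient.liftₐ I (MvPolynomial.aeval x) fun a ha ↦ by
      have : I ≤ RingHom.ker (MvPolynomial.aeval x : MvPolynomial (Fin n) k →ₐ[k] L) := by
        rw [hI, Ideal.span_le]; rintro _ ⟨j, rfl⟩; exact hzero j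
      exact this ha
    let ev' : Polynomial A →ₐ[k] L :=
      { Polynomial.eval₂RingHom ev.toRingHom t⁻¹ with
        commutes' := fun r ↦ by simp [Polynomial.algebraMap_apply] }
    have hkey : ev'.comp φ = MvPolynomial.aeval fun i ↦ algebraMap k L (D i) := by
      refine MvPolynomial.algHom_ext fun i ↦ ?_
      have hq : ev (q i) = x i := by
        show (MvPolynomial.aeval x) (MvPolynomial.X i) = x i
        simp
      show Polynomial.eval₂ ev.toRingHom t⁻¹ (φ (MvPolynomial.X i)) = _
      simp only [φ, MvPolynomial.aeval_X, Polynomial.eval₂_mul, Polynomial.eval₂_X, Polynomial.eval₂_C]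
      show t⁻¹ * ev (q i - algebraMap k A (p i)) = _
      rw [map_sub, hq, AlgHom.commutes]
      show t⁻¹ * (π (line i) - _) = _
      rw [hline, add_sub_cancel_left, inv_mul_cancel_left₀ ht]
    have h0 := congr($hkey h)
    rw [AlgHom.comp_apply, hh0, map_zero,
      show (fun i ↦ algebraMap k L (D i)) = algebraMap k L ∘ D from rfl,
      MvPolynomial.aeval_algebraMap_apply, eq_comm, map_eq_zero] at h0
    exact hD h0
  obtain ⟨a, ha⟩ := Ideal.mem_span_range_iff_exists_fun.1 ((Ideal.eq_top_iff_one _).1 htop)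
  refine ⟨a, fun t ↦ ?_⟩
  have := congr(Polynomial.aeval t $ha)
  simp only [map_sum, map_mul, map_one, Polynomial.coe_aeval_eq_eval] at this
  refine Eq.trans (Finset.sum_congr rfl fun j _ ↦ ?_) this
  congr 1
  rw [← Polynomial.coe_aeval_eq_eval, MvPolynomial.comp_aeval_apply]
  have hswap : (fun i ↦ p i + t * D i) = fun i ↦ p i + D i * t := funext fun i ↦ by rw [mul_comm]
  simp [line, hF, hswap]

end Groth.L11.CodimTwo
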