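import Mathlib.RingTheory.DedekindDomain.AdicValuation
import Mathlib.RingTheory.DedekindDomain.Ideal.Lemmas
import Mathlib.RingTheory.DedekindDomain.Factorization
import Mathlib.NumberTheory.NumberField.Completion.InfinitePlace
import Mathlib.NumberTheory.NumberField.InfiniteAdeleRing
import Mathlib.NumberTheory.NumberField.CanonicalEmbedding.ConvexBody
import Mathlib.NumberTheory.NumberField.ClassNumber
import Mathlib.NumberTheory.NumberField.Norm
import Mathlib.RingTheory.Ideal.Norm.AbsNorm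

/-!
# Strong approximation off a finite place for the additive group of a number field
-/

set_option autoImplicit false

open NumberField IsDedekindDomain WithZero

namespace Groth.L11.StrongApprox

universe u
variable {k : Type u} [Field k] [NumberField k]

local notation "HOS" => HeightOneSpectrum (RingOfIntegers k)

/-- An element supported exactly at one prime. -/
lemma exists_single_supp (v₀ : HOS) : ∃ π : 𝓞 k, π ≠ 0 ∧ π ∈ v₀.asIdeal ∧
    ∀ v : HOS, v ≠ v₀ → π ∉ v.asIdeal := by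
  classical
  set h := Fintype.card (ClassGroup (𝓞 k)) with hh
  have hv : v₀.asIdeal ∈ nonZeroDivisors (Ideal (𝓞 k)) :=
    mem_nonZeroDivisors_of_ne_zero v₀.ne_bot
  have hp : (v₀.asIdeal ^ h).IsPrincipal := by
    rw [← ClassGroup.mk0_eq_one_iff (pow_mem hv h), ← SubmonoidClass.mk_pow _ hv, map_pow]
    exact pow_card_eq_one
  obtain ⟨π, hπ⟩ := hp
  have hne : π ≠ 0 := by
    rintro rfl
    exact pow_ne_zero h v₀.ne_bot (by simpa using hπ)
  have hmem : π ∈ v₀.asIdeal ^ h := by rw [hπ]; exact Ideal.mem_span_singleton_self π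
  refine ⟨π, hne, Ideal.pow_le_self Fintype.card_ne_zero hmem, fun v hvv hπv ↦ hvv ?_⟩
  have hle : v₀.asIdeal ^ h ≤ v.asIdeal := by
    rw [hπ]; exact (Ideal.span_singleton_le_iff_mem _).2 hπv
  exact HeightOneSpectrum.ext (v₀.isMaximal.eq_of_le v.isPrime.ne_top (v.isPrime.le_of_pow_le hle)).symm

/-- Integral outside `v₀`, nonzero, and arbitrarily small at all infinite places. -/
lemma exists_small (v₀ : HOS) {ε : ℝ} (hε : 0 < ε) : ∃ x : k, x ≠ 0 ∧
    (∀ v : HOS, v ≠ v₀ → v.valuation k x ≤ 1) ∧ ∀ w : InfinitePlace k, w x < ε := by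
  classical
  obtain ⟨π, hπ0, hπv₀, hπ⟩ := exists_single_supp v₀
  have hπk : (π : k) ≠ 0 := RingOfIntegers.coe_ne_zero_iff.2 hπ0
  have hN : 1 < |Algebra.norm ℚ (π : k)| := by
    have hu : ¬ IsUnit π := fun hu ↦ v₀.isPrime.ne_top (Ideal.eq_top_of_isUnit_mem _ hπv₀ hu)
    have h1 : (Algebra.norm ℤ π).natAbs ≠ 1 := fun h ↦ hu (by
      rwa [← Ideal.absNorm_span_singleton, Ideal.absNorm_eq_one_iff,
        Ideal.span_singleton_eq_top] at h)
    have h0 : Algebra.norm ℤ π ≠ 0 := Algebra.norm_ne_zero_iff.2 hπ0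
    have h2 : 1 < |Algebra.norm ℤ π| := by rw [Int.abs_eq_natAbs]; omega
    rw [← Algebra.coe_norm_int, ← Int.cast_abs]
    exact_mod_cast h2
  set ε' : NNReal := ⟨ε, hε.le⟩
  have hc : ((mixedEmbedding.convexBodyLTFactor k : NNReal) : ENNReal) ≠ 0 :=
    ENNReal.coe_ne_zero.2 (mixedEmbedding.convexBodyLTFactor_ne_zero k)
  have hM := mixedEmbedding.minkowskiBound_lt_top k (↑1 : (FractionalIdeal (nonZeroDivisors (𝓞 k)) k)ˣ)
  set M := mixedEmbedding.minkowskiBound k (↑1 : (FractionalIdeal (nonZeroDivisors (𝓞 k)) k)ˣ)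
  obtain ⟨m, hm⟩ : ∃ m : ℕ, M < (mixedEmbedding.convexBodyLTFactor k : ENNReal) *
      (((ε' ^ (∑ w : InfinitePlace k, InfinitePlace.mult w) : NNReal) : ENNReal) *
      ((Real.toNNReal |(Algebra.norm ℚ (π : k) : ℝ)|) ^ m : NNReal)) := by
    lift M to NNReal using hM.ne with M'
    set c := mixedEmbedding.convexBodyLTFactor k * ε' ^ (∑ w : InfinitePlace k, InfinitePlace.mult w)
    have hc0 : 0 < c := mul_pos (pos_iff_ne_zero.2 (mixedEmbedding.convexBodyLTFactor_ne_zero k))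
      (pow_pos (show 0 < ε' from hε) _)
    have hN' : 1 < Real.toNNReal |(Algebra.norm ℚ (π : k) : ℝ)| := by
      rw [Real.one_lt_toNNReal]; exact_mod_cast hN
    obtain ⟨m, hm⟩ := pow_unbounded_of_one_lt (M' / c) hN'
    refine ⟨m, ?_⟩
    rw [div_lt_iff₀' hc0] at hm
    rw [← ENNReal.coe_mul, ← ENNReal.coe_mul, ← mul_assoc]
    exact ENNReal.coe_lt_coe.2 hm
  let f : InfinitePlace k → NNReal := fun w ↦ ε' * (Real.toNNReal (w (π : k))) ^ m
  have hprod : ∏ w, f w ^ InfinitePlace.mult w =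
      ε' ^ (∑ w : InfinitePlace k, InfinitePlace.mult w) *
        (Real.toNNReal |(Algebra.norm ℚ (π : k) : ℝ)|) ^ m := by
    have := InfinitePlace.prod_eq_abs_norm (π : k)
    simp only [f, mul_pow, Finset.prod_mul_distrib, Finset.prod_pow_eq_pow_sum]
    congr 1
    rw [Finset.prod_congr rfl (fun w _ ↦ show _ = ((Real.toNNReal (w (π : k))) ^ InfinitePlace.mult w) ^ m
      by rw [← pow_mul, ← pow_mul, mul_comm]), Finset.prod_pow]
    congr 1
    rw [← Rat.cast_abs, ← this, Real.toNNReal_prod_of_nonneg (fun w _ ↦ by positivity)]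
    exact Finset.prod_congr rfl fun w _ ↦ (Real.toNNReal_pow (apply_nonneg w _) _).symm
  obtain ⟨a, ha0, ha⟩ := mixedEmbedding.exists_ne_zero_mem_ringOfIntegers_lt (K := k) (f := f) (by
    rw [mixedEmbedding.convexBodyLT_volume, hprod, ENNReal.coe_mul]
    exact hm)
  refine ⟨(a : k) / (π : k) ^ m, div_ne_zero (RingOfIntegers.coe_ne_zero_iff.2 ha0)
    (pow_ne_zero _ hπk), fun v hv ↦ ?_, fun w ↦ ?_⟩
  · rw [map_div₀, map_pow, show v.valuation k (π : k) = 1 from
      (HeightOneSpectrum.valuation_of_algebraMap v π).trans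
        (HeightOneSpectrum.intValuation_eq_one_iff.2 (hπ v hv)), one_pow, div_one]
    exact v.valuation_le_one a
  · have hw : 0 < w (π : k) := InfinitePlace.pos_iff.2 hπk
    rw [map_div₀, map_pow, div_lt_iff₀ (pow_pos hw m)]
    have := ha w
    simp only [f, NNReal.coe_mul, NNReal.coe_pow, Real.coe_toNNReal _ (apply_nonneg w _)] at this
    exact this

/-- Every element of `k` is within `ε` at all infinite places of one integral outside `v₀`. -/
lemma exists_close_infinite (v₀ : HOS) {ε : ℝ} (hε : 0 < ε) (b : k) : ∃ u : k,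
    (∀ v : HOS, v ≠ v₀ → v.valuation k u ≤ 1) ∧ ∀ w : InfinitePlace k, w (b - u) < ε := by
  classical
  let ω := integralBasis k
  set C : ℝ := (∑ w : InfinitePlace k, ∑ i, w (ω i)) + 1
  have hC : 0 < C := by positivity
  obtain ⟨x, hx0, hxv, hxw⟩ := exists_small v₀ (div_pos hε hC)
  let c : _ → ℚ := fun i ↦ ω.repr (b / x) i
  let r : 𝓞 k := ∑ i, ⌊c i⌋ • RingOfIntegers.basis k i
  refine ⟨x * r, fun v hv ↦ ?_, fun w ↦ ?_⟩
  · rw [map_mul]
    exact mul_le_one' (hxv v hv) (v.valuation_le_one r)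
  · have hr : (r : k) = ∑ i, (⌊c i⌋ : ℚ) • ω i := by
      simp [r, ω, integralBasis_apply, map_sum, map_zsmul, Int.cast_smul_eq_zsmul]
    have hb : b - x * r = x * ∑ i, ((Int.fract (c i) : ℚ) : k) * ω i := by
      have hs : b / x = ∑ i, c i • ω i := (ω.sum_repr (b / x)).symm
      rw [hr]
      simp only [Int.fract, Rat.cast_sub, Rat.cast_intCast, sub_mul, Finset.sum_sub_distrib,
        Rat.smul_def, ] at hs ⊢
      rw [mul_sub, ← hs, mul_div_cancel₀ _ hx0]
    rw [hb, map_mul]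
    have hS : w (∑ i, ((Int.fract (c i) : ℚ) : k) * ω i) ≤ C := by
      refine (AbsoluteValue.sum_le w.1 _ _).trans ?_
      have h1 : ∑ i, w (((Int.fract (c i) : ℚ) : k) * ω i) ≤ ∑ i, w (ω i) := Finset.sum_le_sum fun i _ ↦ by
        rw [map_mul, ← InfinitePlace.norm_embedding_eq w ((Int.fract (c i) : ℚ) : k)]
        have : ‖w.embedding ((Int.fract (c i) : ℚ) : k)‖ ≤ 1 := by
          rw [map_ratCast, Complex.norm_ratCast, abs_of_nonneg (by exact_mod_cast Int.fract_nonneg _)]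
          exact_mod_cast (Int.fract_lt_one _).le
        exact mul_le_of_le_one_left (apply_nonneg w _) this
      refine h1.trans ?_
      have := Finset.single_le_sum (f := fun w : InfinitePlace k ↦ ∑ i, w (ω i))
        (fun w _ ↦ Finset.sum_nonneg fun i _ ↦ apply_nonneg w _) (Finset.mem_univ w)
      linarith
    calc w x * _ ≤ w x * C := mul_le_mul_of_nonneg_left hS (apply_nonneg w x)
      _ < ε / C * C := mul_lt_mul_of_pos_right (hxw w) hC
      _ = ε := div_mul_cancel₀ ε hC.ne'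

lemma exists_exp_neg_lt {γ : ℤᵐ⁰} (hγ : γ ≠ 0) : ∃ n : ℕ, exp (-(n : ℤ)) < γ := by
  refine ⟨(-(log γ) + 1).toNat, ?_⟩
  refine lt_of_lt_of_eq (exp_lt_exp.2 ?_) (exp_log hγ)
  omega

/-- Chinese remainder theorem in terms of valuations. -/
lemma exists_crt (A : Finset HOS) (r : HOS → 𝓞 k) (γ : HOS → ℤᵐ⁰) (hγ : ∀ v ∈ A, γ v ≠ 0) :
    ∃ z : 𝓞 k, ∀ v ∈ A, v.intValuation (z - r v) < γ v := by
  classical
  choose n hn using fun v : A ↦ exists_exp_neg_lt (hγ v.1 v.2)
  let n' : HOS → ℕ := fun v ↦ if h : v ∈ A then n ⟨v, h⟩ else 0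
  obtain ⟨z, hz⟩ := IsDedekindDomain.exists_forall_sub_mem_ideal (s := A)
    (fun v : HOS ↦ v.asIdeal) n' (fun v _ ↦ v.prime) (fun v _ v' _ hne he ↦
      hne (HeightOneSpectrum.ext he)) (fun v ↦ r v.1)
  refine ⟨z, fun v hv ↦ lt_of_le_of_lt ((v.intValuation_le_pow_iff_mem _ _).2 (hz v hv)) ?_⟩
  simpa [n', hv] using hn ⟨v, hv⟩

/-- A nonzero integer which is small at finitely many primes. -/
lemma exists_small_finite (A : Finset HOS) (γ : HOS → ℤᵐ⁰) (hγ : ∀ v ∈ A, γ v ≠ 0) :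
    ∃ N : 𝓞 k, N ≠ 0 ∧ ∀ v ∈ A, v.intValuation N < γ v := by
  classical
  choose n hn using fun v : A ↦ exists_exp_neg_lt (hγ v.1 v.2)
  let J : Ideal (𝓞 k) := ∏ v : A, v.1.asIdeal ^ n v
  have hJ : J ≠ ⊥ := Finset.prod_ne_zero_iff.2 fun v _ ↦ pow_ne_zero _ v.1.ne_bot
  obtain ⟨N, hN, hN0⟩ := Submodule.exists_mem_ne_zero_of_ne_bot hJ
  refine ⟨N, hN0, fun v hv ↦ lt_of_le_of_lt ((v.intValuation_le_pow_iff_mem _ _).2 ?_) (hn ⟨v, hv⟩)⟩
  exact Ideal.le_of_dvd (Finset.dvd_prod_of_mem _ (Finset.mem_univ (⟨v, hv⟩ : A))) hN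

lemma exists_ball_subset (v : HOS) {U : Set (v.adicCompletion k)} (hU : IsOpen U) (hne : U.Nonempty) :
    ∃ (q : k) (γ : ℤᵐ⁰), γ ≠ 0 ∧
      ∀ x : k, v.valuation k (x - q) < γ → algebraMap k (v.adicCompletion k) x ∈ U := by
  obtain ⟨q, hq⟩ := (HeightOneSpectrum.denseRange_algebraMap (K := k) v).exists_mem_open hU hne
  obtain ⟨γ, hγ⟩ := Valued.mem_nhds.1 (hU.mem_nhds hq)
  refine ⟨q, MonoidWithZeroHom.ValueGroup₀.embedding γ.1, ?_, fun x hx ↦ hγ ?_⟩
  · exact (map_ne_zero _).2 γ.ne_zero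
  · rw [Set.mem_ofPred_eq]
    rw [Valuation.restrict_lt_iff_lt_embedding, ← map_sub]
    exact lt_of_eq_of_lt (HeightOneSpectrum.valuedAdicCompletion_eq_valuation' v (x - q)) hx

lemma norm_algebraMap_completion (w : InfinitePlace k) (x : k) :
    ‖algebraMap k w.Completion x‖ = w x := by
  simp [InfinitePlace.Completion.norm_coe]
  rfl

lemma exists_ball_subset_infinite {V : (w : InfinitePlace k) → Set w.Completion}
    (hV : ∀ w, IsOpen (V w) ∧ (V w).Nonempty) :
    ∃ (a : k) (δ : ℝ), 0 < δ ∧ ∀ x : k, (∀ w : InfinitePlace k, w (x - a) < δ) →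
      ∀ w, algebraMap k w.Completion x ∈ V w := by
  classical
  obtain ⟨a, ha⟩ := (InfiniteAdeleRing.denseRange_algebraMap k).exists_mem_open
    (isOpen_set_pi Set.finite_univ fun w _ ↦ (hV w).1)
    (Set.univ_pi_nonempty_iff.2 fun w ↦ (hV w).2)
  have : ∀ w : InfinitePlace k, ∀ᶠ δ in nhdsWithin (0 : ℝ) (Set.Ioi 0),
      Metric.ball (algebraMap k w.Completion a) δ ⊆ V w := fun w ↦ by
    obtain ⟨r, hr, hb⟩ := Metric.isOpen_iff.1 (hV w).1 _ (ha w trivial)
    filter_upwards [Ioo_mem_nhdsGT hr] with δ hδ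
    exact (Metric.ball_subset_ball hδ.2.le).trans hb
  obtain ⟨δ, hδ, hδ'⟩ := ((Filter.eventually_all.2 this).and self_mem_nhdsWithin).exists
  refine ⟨a, δ, hδ', fun x hx w ↦ hδ w ?_⟩
  rw [Metric.mem_ball, dist_eq_norm, ← map_sub, norm_algebraMap_completion]
  exact hx w

/-- Strong approximation for `𝔾ₐ` off the finite place `v₀`. -/
theorem strong_approx (v₀ : HOS) (A : Finset HOS) (hA : v₀ ∉ A)
    (U : (v : HOS) → Set (v.adicCompletion k)) (hU : ∀ v ∈ A, IsOpen (U v) ∧ (U v).Nonempty)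
    (V : (w : InfinitePlace k) → Set w.Completion) (hV : ∀ w, IsOpen (V w) ∧ (V w).Nonempty) :
    ∃ x : k, (∀ v : HOS, v ∉ A → v ≠ v₀ → v.valuation k x ≤ 1) ∧
      (∀ v ∈ A, algebraMap k (v.adicCompletion k) x ∈ U v) ∧
      ∀ w : InfinitePlace k, algebraMap k w.Completion x ∈ V w := by
  classical
  choose q₀ γ₀ hγ₀ hball using fun v : A ↦ exists_ball_subset v.1 (hU v.1 v.2).1 (hU v.1 v.2).2
  obtain ⟨D, hD⟩ := IsLocalization.exist_integer_multiples_of_finite (nonZeroDivisors (𝓞 k)) q₀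
  have hD0 : ((D : 𝓞 k) : k) ≠ 0 := RingOfIntegers.coe_ne_zero_iff.2 (nonZeroDivisors.coe_ne_zero D)
  choose p₀ hp₀ using hD
  let q : HOS → k := fun v ↦ if h : v ∈ A then q₀ ⟨v, h⟩ else 0
  let γ : HOS → ℤᵐ⁰ := fun v ↦ if h : v ∈ A then γ₀ ⟨v, h⟩ else 1
  let p : HOS → 𝓞 k := fun v ↦ if h : v ∈ A then p₀ ⟨v, h⟩ else 0
  have hp : ∀ v, (p v : k) = (D : 𝓞 k) * q v := fun v ↦ by
    by_cases h : v ∈ A
    · simpa [p, q, h, Algebra.smul_def] using hp₀ ⟨v, h⟩
    · simp [p, q, h]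
  have hγ : ∀ v, γ v ≠ 0 := fun v ↦ by
    by_cases h : v ∈ A
    · simpa [γ, h] using hγ₀ ⟨v, h⟩
    · simp [γ, h]
  have hball' : ∀ v ∈ A, ∀ x : k, v.valuation k (x - q v) < γ v →
      algebraMap k (v.adicCompletion k) x ∈ U v := fun v hv ↦ by
    simpa [γ, q, hv] using hball ⟨v, hv⟩
  have hfin : {v : HOS | (D : 𝓞 k) ∈ v.asIdeal}.Finite := by
    have := Ideal.finite_factors (I := Ideal.span {(D : 𝓞 k)}) (by simp)
    exact this.subset fun v hv ↦ (Ideal.dvd_span_singleton.2 hv)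
  obtain ⟨z, hz⟩ := exists_crt (A ∪ hfin.toFinset) p
    (fun v ↦ v.intValuation (D : 𝓞 k) * γ v) (fun v _ ↦ mul_ne_zero
      (v.intValuation_ne_zero _ (nonZeroDivisors.coe_ne_zero D)) (hγ v))
  set y : k := (z : k) / (D : 𝓞 k) with hy
  have hval : ∀ v : HOS, ∀ r : 𝓞 k, v.valuation k (r : k) = v.intValuation r :=
    fun v r ↦ HeightOneSpectrum.valuation_of_algebraMap v r
  have hyA : ∀ v ∈ A, v.valuation k (y - q v) < γ v := fun v hv ↦ by
    have h := hz v (Finset.mem_union_left _ hv)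
    rw [← hval, ← hval, mul_comm] at h
    have hyq : y - q v = ((z - p v : 𝓞 k) : k) / (D : 𝓞 k) := by
      show _ = algebraMap (𝓞 k) k (z - p v) / _
      rw [map_sub, hy, ← RingOfIntegers.coe_eq_algebraMap (p v), hp v]; field_simp
    rw [hyq, map_div₀, div_lt_iff₀ (zero_lt_iff.2 ((Valuation.ne_zero_iff _).2 hD0))]
    exact h
  have hyint : ∀ v : HOS, v ∉ A → v.valuation k y ≤ 1 := fun v hv ↦ by
    by_cases hDv : (D : 𝓞 k) ∈ v.asIdeal
    · have h := hz v (Finset.mem_union_right _ (hfin.mem_toFinset.2 hDv))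
      simp only [p, γ, dif_neg hv, sub_zero, mul_one] at h
      rw [hy, map_div₀, hval, hval,
        div_le_one₀ (zero_lt_iff.2 (v.intValuation_ne_zero _ (nonZeroDivisors.coe_ne_zero D)))]
      exact h.le
    · rw [hy, map_div₀, hval, hval, HeightOneSpectrum.intValuation_eq_one_iff.2 hDv, div_one]
      exact v.intValuation_le_one z
  obtain ⟨N, hN0, hN⟩ := exists_small_finite A γ fun v _ ↦ hγ v
  obtain ⟨a, δ, hδ, hinf⟩ := exists_ball_subset_infinite hV
  have hNk : (N : k) ≠ 0 := RingOfIntegers.coe_ne_zero_iff.2 hN0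
  set C : ℝ := (∑ w : InfinitePlace k, w (N : k)) + 1
  have hC : 0 < C := by positivity
  obtain ⟨u, hu, huw⟩ := exists_close_infinite v₀ (div_pos hδ hC) ((a - y) / (N : k))
  refine ⟨y + (N : k) * u, fun v hv hv₀ ↦ ?_, fun v hv ↦ hball' v hv _ ?_, hinf _ fun w ↦ ?_⟩
  · refine (Valuation.map_add _ _ _).trans (max_le (hyint v hv) ?_)
    rw [map_mul]
    exact mul_le_one' (v.valuation_le_one N) (hu v hv₀)
  · rw [add_sub_right_comm]
    refine Valuation.map_add_lt _ (hyA v hv) ?_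
    rw [map_mul, hval]
    calc v.intValuation N * v.valuation k u ≤ v.intValuation N * 1 :=
          mul_le_mul_right (hu v fun h ↦ hA (h ▸ hv)) _
      _ < γ v := by rw [mul_one]; exact hN v hv
  · have h1 : y + (N : k) * u - a = -((N : k) * ((a - y) / (N : k) - u)) := by field_simp; ring
    have h2 : w (N : k) ≤ C := le_add_of_le_of_nonneg (Finset.single_le_sum
      (f := fun w : InfinitePlace k ↦ w (N : k)) (fun w _ ↦ apply_nonneg w _) (Finset.mem_univ w)) one_pos.le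
    rw [h1, ← InfinitePlace.norm_embedding_eq, map_neg, norm_neg, InfinitePlace.norm_embedding_eq, map_mul]
    calc w (N : k) * w ((a - y) / (N : k) - u) < C * (δ / C) :=
          mul_lt_mul' h2 (huw w) (apply_nonneg w _) hC
      _ = δ := mul_div_cancel₀ δ hC.ne'

end Groth.L11.StrongApprox
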