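import Groth.Agent.L11.NF.AdicHensel
import Groth.Agent.L11.NF.StrongApprox
import Groth.Agent.L11.NF.CodimTwo
import Mathlib.FieldTheory.PrimitiveElement
import Mathlib.RingTheory.Adjoin.PowerBasis
import Mathlib.FieldTheory.Separable
import Mathlib.FieldTheory.Minpoly.IsIntegrallyClosed

/-!
# Infinitely many places with a place of degree one above (Schur's argument)
-/

set_option autoImplicit false

open NumberField IsDedekindDomain Polynomial

namespace Groth.L11.DegreeOne

universe u

variable {k : Type u} [Field k] [NumberField k]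

local notation "HOS" => HeightOneSpectrum (RingOfIntegers k)

/-- Schur: a nonconstant monic polynomial over `𝓞 k` with nonzero constant term takes values
divisible by primes outside a given finite set. -/
theorem exists_dvd_eval (g : Polynomial (𝓞 k)) (hg : g.Monic) (hdeg : 0 < g.degree)
    (h0 : g.coeff 0 ≠ 0) (B : Finset HOS) :
    ∃ (v : HOS) (c : 𝓞 k), v ∉ B ∧ g.eval c ∈ v.asIdeal := by
  classical
  choose s hs hs0 using fun v : HOS ↦ Submodule.exists_mem_ne_zero_of_ne_bot v.ne_bot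
  set a := g.coeff 0
  set m : 𝓞 k := ∏ v ∈ B, s v
  have hm0 : m ≠ 0 := Finset.prod_ne_zero_iff.2 fun v _ ↦ hs0 v
  let c : ℕ → 𝓞 k := fun j ↦ a * m * j
  let u : ℕ → 𝓞 k := fun j ↦ 1 + m * j * g.divX.eval (c j)
  have hu : ∀ j, g.eval (c j) = a * u j := fun j ↦ by
    conv_lhs => rw [← X_mul_divX_add g]
    simp only [eval_add, eval_mul, eval_X, eval_C, c, u]
    ring
  have hlarge : ∀ w : InfinitePlace k, ∀ᶠ j in Filter.atTop, 1 < w ((u j : 𝓞 k) : k) := fun w ↦ by
    let φ : 𝓞 k →+* ℂ := w.embedding.comp (algebraMap (𝓞 k) k)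
    have hφ : ∀ x : 𝓞 k, ‖φ x‖ = w (x : k) := fun x ↦ InfinitePlace.norm_embedding_eq w _
    have hdeg' : 0 < (g.map φ).degree := by rwa [hg.degree_map φ]
    have ham : 0 < ‖φ (a * m)‖ := by
      rw [hφ]; exact InfinitePlace.pos_iff.2 (RingOfIntegers.coe_ne_zero_iff.2 (mul_ne_zero h0 hm0))
    have hz : Filter.Tendsto (fun j ↦ ‖φ (c j)‖) Filter.atTop Filter.atTop := by
      simp only [c, map_mul, map_natCast, norm_mul, Complex.norm_natCast]
      rw [map_mul, norm_mul] at ham
      exact Filter.Tendsto.const_mul_atTop ham tendsto_natCast_atTop_atTop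
    have ha : 0 < ‖φ a‖ := by
      rw [hφ]; exact InfinitePlace.pos_iff.2 (RingOfIntegers.coe_ne_zero_iff.2 h0)
    filter_upwards [((g.map φ).tendsto_norm_atTop hdeg' hz).eventually_gt_atTop ‖φ a‖] with j hj
    rw [eval_map_apply, hu, map_mul, norm_mul] at hj
    rw [← hφ]
    exact (lt_mul_iff_one_lt_right ha).1 hj
  obtain ⟨j, hj⟩ := (Filter.eventually_all.2 hlarge).exists
  have hnu : ¬ IsUnit (u j) := fun hunit ↦ by
    have h1 : |Algebra.norm ℚ ((u j : 𝓞 k) : k)| = 1 := by
      simpa [RingOfIntegers.coe_norm] using (NumberField.isUnit_iff_norm.1 hunit)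
    have h2 := InfinitePlace.prod_eq_abs_norm ((u j : 𝓞 k) : k)
    rw [h1, Rat.cast_one] at h2
    refine h2.not_gt ?_
    rw [← Finset.prod_const_one (s := (Finset.univ : Finset (InfinitePlace k)))]
    exact Finset.prod_lt_prod (fun _ _ ↦ one_pos) (fun w _ ↦ one_le_pow₀ (hj w).le)
      ⟨Classical.arbitrary _, Finset.mem_univ _, one_lt_pow₀ (hj _) InfinitePlace.mult_pos.ne'⟩
  obtain ⟨M, hM, huM⟩ := exists_max_ideal_of_mem_nonunits hnu
  have hMne : M ≠ ⊥ := fun h ↦ by
    have h0 : u j = 0 := by rwa [h, Ideal.mem_bot] at huM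
    have := hj (Classical.arbitrary _)
    rw [h0, RingOfIntegers.coe_eq_algebraMap, map_zero, map_zero] at this
    exact not_lt.2 zero_le_one this
  refine ⟨⟨M, hM.isPrime, hMne⟩, c j, fun hB ↦ hM.ne_top ((Ideal.eq_top_iff_one _).2 ?_), ?_⟩
  · have hmM : m ∈ M := M.mem_of_dvd (Finset.dvd_prod_of_mem s hB) (hs ⟨M, hM.isPrime, hMne⟩)
    have h1 : u j - m * j * g.divX.eval (c j) ∈ M :=
      M.sub_mem huM (M.mul_mem_right _ (M.mul_mem_right _ hmM))
    simpa [u] using h1
  · show g.eval (c j) ∈ M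
    rw [hu]
    exact M.mul_mem_left _ huM

variable (L : Type u) [Field L] [NumberField L] [Algebra k L]

/-- Outside any finite set there is a finite place of `k` at which `L` has a place of degree one. -/
theorem exists_place (S : Finset HOS) :
    ∃ v : HOS, v ∉ S ∧ Nonempty (L →ₐ[k] v.adicCompletion k) := by
  classical
  haveI : FiniteDimensional k L := Module.Finite.of_restrictScalars_finite ℚ k L
  obtain ⟨α, hα⟩ := Field.exists_primitive_element k L
  obtain ⟨d, hd0, hd⟩ := IsAlgebraic.exists_integral_multiple (R := 𝓞 k) (z := α)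
    ((IsFractionRing.isAlgebraic_iff (𝓞 k) k L).2 (Algebra.IsAlgebraic.isAlgebraic α))
  have hgen : IntermediateField.adjoin k {d • α} = ⊤ := by
    rw [eq_top_iff, ← hα, IntermediateField.adjoin_simple_le_iff]
    have hd' : algebraMap (𝓞 k) k d ≠ 0 := RingOfIntegers.coe_ne_zero_iff.2 hd0
    have h := IntermediateField.smul_mem _ (x := (algebraMap (𝓞 k) k d)⁻¹)
      (IntermediateField.mem_adjoin_simple_self k (d • α))
    convert h using 1
    rw [← algebraMap_smul k d α, inv_smul_smul₀ hd']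
  let pb : PowerBasis k L :=
    (IntermediateField.adjoin.powerBasis (Algebra.IsIntegral.isIntegral (R := k) (d • α))).map
      ((IntermediateField.equivOfEq hgen).trans IntermediateField.topEquiv)
  have hg : IsIntegral (𝓞 k) pb.gen := by simpa [pb] using hd
  set g := minpoly (𝓞 k) pb.gen with hgdef
  have hmin : minpoly k pb.gen = g.map (algebraMap (𝓞 k) k) :=
    minpoly.isIntegrallyClosed_eq_field_fractions' k hg
  by_cases hz : pb.gen = 0
  · obtain ⟨v, c, hv, -⟩ := exists_dvd_eval (X + 1 : Polynomial (𝓞 k)) (monic_X_add_C 1)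
      (by rw [← C_1, degree_X_add_C]; exact one_pos) (by simp) S
    refine ⟨v, hv, ⟨pb.lift 0 ?_⟩⟩
    rw [hz, minpoly.zero, aeval_X]
  have hsep : (minpoly k pb.gen).Separable := Algebra.IsSeparable.isSeparable k pb.gen
  obtain ⟨p, q, hpq⟩ := hsep
  have hbad : {v : HOS | ∃ e : ℕ, (e ∈ p.support ∧ 1 < v.valuation k (p.coeff e)) ∨
      (e ∈ q.support ∧ 1 < v.valuation k (q.coeff e))}.Finite := by
    refine ((p.support.finite_toSet.biUnion fun e _ ↦
      HeightOneSpectrum.Support.finite (RingOfIntegers k) (p.coeff e)).union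
      (q.support.finite_toSet.biUnion fun e _ ↦
        HeightOneSpectrum.Support.finite (RingOfIntegers k) (q.coeff e))).subset ?_
    rintro v ⟨e, ⟨he, h⟩ | ⟨he, h⟩⟩
    · exact Or.inl (Set.mem_biUnion he h)
    · exact Or.inr (Set.mem_biUnion he h)
  obtain ⟨v, c, hv, hvc⟩ := exists_dvd_eval g (minpoly.monic hg) (minpoly.degree_pos hg)
    (fun h ↦ minpoly.coeff_zero_ne_zero (Algebra.IsIntegral.isIntegral (R := k) pb.gen) hz
      (by rw [hmin, coeff_map, h, map_zero])) (S ∪ hbad.toFinset)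
  rw [Finset.mem_union, not_or] at hv
  refine ⟨v, hv.1, ?_⟩
  have hev : ∀ r : Polynomial k, (∀ e, v.valuation k (r.coeff e) ≤ 1) →
      v.valuation k (r.eval (c : k)) ≤ 1 := fun r hr ↦ by
    rw [eval_eq_sum]
    refine Valuation.map_sum_le _ fun e _ ↦ ?_
    rw [map_mul, map_pow]
    exact mul_le_one' (hr e) (pow_le_one' (v.valuation_le_one c) e)
  have hcoef : ∀ (r : Polynomial k), (∀ e ∈ r.support, ¬ 1 < v.valuation k (r.coeff e)) →
      ∀ e, v.valuation k (r.coeff e) ≤ 1 := fun r hr e ↦ by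
    by_cases he : e ∈ r.support
    · exact not_lt.1 (hr e he)
    · simp [notMem_support_iff.1 he]
  have hp := hev p (hcoef p fun e he h ↦ hv.2 (hbad.mem_toFinset.2 ⟨e, Or.inl ⟨he, h⟩⟩))
  have hq := hev q (hcoef q fun e he h ↦ hv.2 (hbad.mem_toFinset.2 ⟨e, Or.inr ⟨he, h⟩⟩))
  have h0 : v.valuation k ((g.eval c : 𝓞 k) : k) < 1 :=
    (HeightOneSpectrum.valuation_lt_one_iff_mem v _).2 hvc
  have hgc : (minpoly k pb.gen).eval (c : k) = ((g.eval c : 𝓞 k) : k) := by
    rw [hmin, eval_map_apply]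
  have hgc' : (minpoly k pb.gen).derivative.eval (c : k) = ((g.derivative.eval c : 𝓞 k) : k) := by
    rw [hmin, derivative_map, eval_map_apply]
  have h1 : v.valuation k ((g.derivative.eval c : 𝓞 k) : k) = 1 := by
    refine le_antisymm (v.valuation_le_one _) (le_of_not_gt fun hlt ↦ ?_)
    have h := congr(v.valuation k (Polynomial.eval (c : k) $hpq))
    rw [eval_add, eval_mul, eval_mul, eval_one, map_one, hgc, hgc'] at h
    refine h.not_lt (Valuation.map_add_lt _ ?_ ?_)
    · rw [map_mul]; exact (mul_le_of_le_one_left' hp).trans_lt h0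
    · rw [map_mul]; exact (mul_le_of_le_one_left' hq).trans_lt hlt
  let ψ : 𝓞 k →+* v.adicCompletion k := (algebraMap k _).comp (algebraMap (𝓞 k) k)
  set χ : Polynomial (v.adicCompletion k) := (Polynomial.taylor c g).map ψ
  have hval : ∀ r : 𝓞 k, Valued.v (ψ r) = v.valuation k (r : k) := fun r ↦
    CodimTwo.valued_algebraMap v _
  obtain ⟨r, hr, -⟩ := AdicHensel.exists_simple_root v χ
    ((Monic.def.2 ((leadingCoeff_taylor (r := c) (f := g)).trans (minpoly.monic hg))).map ψ)
    (fun i ↦ by rw [coeff_map, hval]; exact v.valuation_le_one _)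
    (by rw [coeff_map, hval, taylor_coeff_zero]; exact h0)
    (by rw [coeff_map, hval, taylor_coeff_one]; exact h1)
  refine ⟨pb.lift (r + ψ c) ?_⟩
  rw [hmin, aeval_map_algebraMap, aeval_def]
  have := hr.eq_zero
  rw [Polynomial.eval_map, taylor_apply, eval₂_comp, eval₂_add, eval₂_X, eval₂_C] at this
  exact this

end Groth.L11.DegreeOne
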