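import Mathlib.RingTheory.Trace.Quotient
import Mathlib.RingTheory.Norm.Basic
import Mathlib.RingTheory.RamificationInertia.Ramification
import Mathlib.NumberTheory.NumberField.Basic
import Mathlib.RingTheory.DedekindDomain.AdicValuation
import Mathlib.RingTheory.DedekindDomain.Ideal.Lemmas
import Mathlib.FieldTheory.Finite.GaloisField
import Mathlib.RingTheory.Valuation.Integral
import Mathlib.RingTheory.Ideal.Norm.AbsNorm
import Mathlib.NumberTheory.NumberField.Ideal.Basic
import Mathlib.LinearAlgebra.Determinant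

/-!
# Approximate norms at unramified places

At finitely many places unramified in `L`, every unit of `K` is arbitrarily close to a norm from `L`.
-/

set_option autoImplicit false

open NumberField IsDedekindDomain WithZero

namespace Groth.L11.NormApprox

section Quot

open IsLocalRing IsLocalization.AtPrime Module

variable {R S : Type*} [CommRing R] [CommRing S] [Algebra R S]

attribute [local instance] Ideal.Quotient.field FractionRing.liftAlgebra
  FractionRing.isScalarTower_liftAlgebra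

/-- The norm of a free algebra over a local ring commutes with reduction. -/
lemma norm_quotient_mk [IsLocalRing R] [Module.Free R S] [Module.Finite R S] (x : S) :
    Algebra.norm (R ⧸ maximalIdeal R)
        (Ideal.Quotient.mk ((maximalIdeal R).map (algebraMap R S)) x) =
      Ideal.Quotient.mk (maximalIdeal R) (Algebra.norm R x) := by
  classical
  let ι := Module.Free.ChooseBasisIndex R S
  let b : Module.Basis ι R S := Module.Free.chooseBasis R S
  rw [Algebra.norm_eq_matrix_det b, Algebra.norm_eq_matrix_det (basisQuotient b),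
    RingHom.map_det, RingHom.mapMatrix_apply]
  congr 1
  ext i j
  simp only [Algebra.leftMulMatrix_apply, Algebra.coe_lmul_eq_mul, LinearMap.toMatrix_apply,
    basisQuotient_apply, LinearMap.mul_apply', Matrix.map_apply, ← map_mul,
    basisQuotient_repr]

open nonZeroDivisors in
/-- The norm map on `B → A` coincides with the norm map on `B⧸pB → A⧸p`. -/
lemma norm_quotient_eq (p : Ideal R) [p.IsMaximal] (x : S) [IsDedekindDomain R] [IsDomain S]
    [Module.IsTorsionFree R S] [Module.Finite R S] [IsIntegrallyClosed S]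
    [FiniteDimensional (FractionRing R) (FractionRing S)] :
    Algebra.norm (R ⧸ p) (Ideal.Quotient.mk (p.map (algebraMap R S)) x) =
      Ideal.Quotient.mk p (Algebra.intNorm R S x) := by
  let Rₚ := Localization.AtPrime p
  let Sₚ := Localization (Algebra.algebraMapSubmonoid S p.primeCompl)
  let : Algebra Rₚ Sₚ := localizationAlgebra p.primeCompl S
  have : IsScalarTower R Rₚ Sₚ := IsScalarTower.of_algebraMap_eq'
    (by rw [RingHom.algebraMap_toAlgebra, IsLocalization.map_comp, ← IsScalarTower.algebraMap_eq])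
  have : IsLocalization (Submonoid.map (algebraMap R S) (Ideal.primeCompl p)) Sₚ :=
    inferInstanceAs (IsLocalization (Algebra.algebraMapSubmonoid S p.primeCompl) Sₚ)
  have e : Algebra.algebraMapSubmonoid S p.primeCompl ≤ S⁰ :=
    Submonoid.map_le_of_le_comap _ <| p.primeCompl_le_nonZeroDivisors.trans
      (nonZeroDivisors_le_comap_nonZeroDivisors_of_injective _
        (FaithfulSMul.algebraMap_injective _ _))
  have : IsDomain Sₚ := IsLocalization.isDomain_of_le_nonZeroDivisors _ e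
  have : IsTorsionFree Rₚ Sₚ := by
    rw [isTorsionFree_iff_algebraMap_injective, RingHom.injective_iff_ker_eq_bot,
      RingHom.ker_eq_bot_iff_eq_zero]
    simp
  have : Module.Finite Rₚ Sₚ := .of_isLocalization R S p.primeCompl
  have : IsIntegrallyClosed Sₚ := isIntegrallyClosed_of_isLocalization _ _ e
  have : IsPrincipalIdealRing Rₚ := by
    by_cases hp : p = ⊥
    · infer_instance
    · have := (IsDedekindDomain.isDedekindDomainDvr R).2 p hp inferInstance
      infer_instance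
  have : Module.Free Rₚ Sₚ := Module.free_of_finite_type_torsion_free'
  have : Algebra.IsIntegral Rₚ Sₚ := Algebra.IsIntegral.of_finite _ _
  have h1 : Algebra.norm (R ⧸ p) (Ideal.Quotient.mk (p.map (algebraMap R S)) x) =
      (equivQuotMaximalIdeal p Rₚ).symm (Algebra.norm (Rₚ ⧸ maximalIdeal Rₚ)
        (algebraMap S (Sₚ ⧸ (maximalIdeal Rₚ).map (algebraMap Rₚ Sₚ)) x)) := by
    have : IsScalarTower R (Rₚ ⧸ maximalIdeal Rₚ) (Sₚ ⧸ (maximalIdeal Rₚ).map (algebraMap Rₚ Sₚ)) := by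
      refine @IsScalarTower.of_algebraMap_eq' R (Rₚ ⧸ maximalIdeal Rₚ)
        (Sₚ ⧸ (maximalIdeal Rₚ).map (algebraMap Rₚ Sₚ)) _ _ _ _ _ _ ?_
      rw [IsScalarTower.algebraMap_eq R Rₚ (Rₚ ⧸ _), IsScalarTower.algebraMap_eq R Rₚ (Sₚ ⧸ _),
        ← RingHom.comp_assoc, ← IsScalarTower.algebraMap_eq Rₚ]
    rw [Algebra.norm_eq_of_equiv_equiv (equivQuotMaximalIdeal p Rₚ)
      (equivQuotientMapMaximalIdeal S p Rₚ Sₚ)]
    · congr
    · ext x
      simp only [equivQuotMaximalIdeal, RingHom.quotientKerEquivOfSurjective,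
        RingEquiv.coe_ringHom_trans, RingHom.coe_comp, RingHom.coe_coe, Function.comp_apply,
        Ideal.quotEquivOfEq_mk, RingHom.quotientKerEquivOfRightInverse.apply, RingHom.kerLift_mk,
        equivQuotientMapMaximalIdeal, Ideal.Quotient.algebraMap_quotient_map_quotient]
      rw [← IsScalarTower.algebraMap_apply, ← IsScalarTower.algebraMap_apply]
  apply (equivQuotMaximalIdeal p Rₚ).injective
  rw [h1, IsScalarTower.algebraMap_eq S Sₚ,
    RingHom.comp_apply, Ideal.Quotient.algebraMap_eq, norm_quotient_mk,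
    RingEquiv.apply_symm_apply, ← Algebra.intNorm_eq_norm,
    ← Algebra.intNorm_eq_of_isLocalization (A := R) (B := S) p.primeCompl (Aₘ := Rₚ) (Bₘ := Sₚ) x,
    ← Ideal.Quotient.algebraMap_eq, ← IsScalarTower.algebraMap_apply]
  simp only [equivQuotMaximalIdeal, RingHom.quotientKerEquivOfSurjective, RingEquiv.coe_trans,
    Function.comp_apply, Ideal.quotEquivOfEq_mk, RingHom.quotientKerEquivOfRightInverse.apply,
    RingHom.kerLift_mk]

/-- The norm of a product of two algebras. -/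
lemma norm_prod_apply {A : Type*} {B C : Type*} [CommRing A] [CommRing B] [CommRing C] [Algebra A B]
    [Algebra A C] [Module.Free A B] [Module.Finite A B] [Module.Free A C] [Module.Finite A C]
    (x : B × C) : Algebra.norm A x = Algebra.norm A x.1 * Algebra.norm A x.2 := by
  rw [Algebra.norm_apply, Algebra.norm_apply, Algebra.norm_apply, ← LinearMap.det_prodMap]
  congr 1

end Quot

universe u

variable (K : Type u) [Field K] [NumberField K] (L : Type u) [Field L] [NumberField L] [Algebra K L]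

local notation "HOS" => HeightOneSpectrum (RingOfIntegers K)

attribute [local instance] Ideal.Quotient.field FractionRing.liftAlgebra
  FractionRing.isScalarTower_liftAlgebra

/-- Surjectivity of the residual norm and of the residual trace at an unramified place. -/
theorem exists_residue (W : HOS)
    (hunr : ∀ Q : Ideal (𝓞 L), Q.IsPrime → Q.LiesOver W.asIdeal → Q.ramificationIdx (𝓞 K) = 1) :
    (∀ β : 𝓞 K, ∃ y : 𝓞 L, Algebra.intNorm (𝓞 K) (𝓞 L) y - β ∈ W.asIdeal) ∧
      ∃ z : 𝓞 L, Algebra.intTrace (𝓞 K) (𝓞 L) z ∉ W.asIdeal := by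
  classical
  haveI : FiniteDimensional K L := Module.Finite.of_restrictScalars_finite ℚ K L
  set p := W.asIdeal with hpdef
  haveI : p.IsMaximal := W.isMaximal
  obtain ⟨Q, hQp, hQ⟩ := Ideal.exists_ideal_over_prime_of_isIntegral_of_isDomain (R := 𝓞 K)
    (S := 𝓞 L) p (by rw [(RingHom.injective_iff_ker_eq_bot _).mp (FaithfulSMul.algebraMap_injective (𝓞 K) (𝓞 L))]; exact bot_le)
  haveI := hQp
  haveI hlo : Q.LiesOver p := ⟨hQ.symm⟩
  have hpS : p.map (algebraMap (𝓞 K) (𝓞 L)) ≠ ⊥ := Ideal.map_ne_bot_of_ne_bot W.ne_bot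
  have hQ0 : Q ≠ ⊥ := Ideal.ne_bot_of_liesOver_of_ne_bot W.ne_bot Q
  haveI : Q.IsMaximal := hQp.isMaximal hQ0
  obtain ⟨a, hPa⟩ : Q ∣ p.map (algebraMap (𝓞 K) (𝓞 L)) :=
    Ideal.dvd_iff_le.mpr (Ideal.map_le_iff_le_comap.mpr hlo.over.le)
  have hndvd : ¬ Q ∣ a := by
    intro h
    have h1 := hunr Q hQp hlo
    rw [Ideal.IsDedekindDomain.ramificationIdx_eq_multiplicity p Q hpS] at h1
    have h2 : Q ^ 2 ∣ p.map (algebraMap (𝓞 K) (𝓞 L)) := by
      rw [pow_two, hPa]; exact mul_dvd_mul_left _ h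
    have h3 : FiniteMultiplicity Q (p.map (algebraMap (𝓞 K) (𝓞 L))) :=
      FiniteMultiplicity.of_prime_left ((Ideal.prime_iff_isPrime hQ0).mpr inferInstance) hpS
    have := h3.le_multiplicity_of_pow_dvd h2
    omega
  have hcop : IsCoprime Q a := by
    rw [Ideal.isCoprime_iff_gcd]
    exact ((Ideal.prime_iff_isPrime hQ0).mpr inferInstance).irreducible.gcd_eq_one_iff.mpr hndvd
  let : Algebra (𝓞 K ⧸ p) (𝓞 L ⧸ a) :=
    Ideal.Quotient.algebraQuotientOfLEComap (Ideal.map_le_iff_le_comap.mp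
      (Ideal.dvd_iff_le.mp ⟨_, hPa.trans (mul_comm _ _)⟩))
  have : IsScalarTower (𝓞 K) (𝓞 K ⧸ p) (𝓞 L ⧸ a) := .of_algebraMap_eq' rfl
  have : Module.Finite (𝓞 K ⧸ p) (𝓞 L ⧸ a) := .of_restrictScalars_finite (𝓞 K) _ _
  have : Module.Finite (𝓞 K ⧸ p) (𝓞 L ⧸ Q) := .of_restrictScalars_finite (𝓞 K) _ _
  let e : (𝓞 L ⧸ p.map (algebraMap (𝓞 K) (𝓞 L))) ≃ₐ[𝓞 K ⧸ p] ((𝓞 L ⧸ Q) × 𝓞 L ⧸ a) :=
    { __ := (Ideal.quotEquivOfEq hPa).trans (Ideal.quotientMulEquivQuotientProd Q a hcop),
      commutes' := Quotient.ind fun _ ↦ rfl }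
  refine ⟨fun β ↦ ?_, ?_⟩
  · obtain ⟨x, hx⟩ := FiniteField.norm_surjective (𝓞 K ⧸ p) (𝓞 L ⧸ Q) (Ideal.Quotient.mk p β)
    obtain ⟨y, hy⟩ := Ideal.Quotient.mk_surjective (e.symm (x, 1))
    refine ⟨y, ?_⟩
    rw [← Ideal.Quotient.mk_eq_mk_iff_sub_mem, ← norm_quotient_eq (S := 𝓞 L) p y, hy,
      Algebra.norm_eq_of_algEquiv, norm_prod_apply, hx, map_one, mul_one]
  · obtain ⟨x, hx⟩ : ∃ x, Algebra.trace (𝓞 K ⧸ p) (𝓞 L ⧸ Q) x ≠ 0 := by
      simpa [LinearMap.ext_iff] using Algebra.trace_ne_zero (𝓞 K ⧸ p) (𝓞 L ⧸ Q)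
    obtain ⟨y, hy⟩ := Ideal.Quotient.mk_surjective (e.symm (x, 0))
    refine ⟨y, ?_⟩
    rw [← Ideal.Quotient.eq_zero_iff_mem, ← Algebra.trace_quotient_eq_of_isDedekindDomain,
      hy, Algebra.trace_eq_of_algEquiv, Algebra.trace_prod_apply]
    simpa

variable {K L}

/-- The norm of `1 + r z` agrees to second order with `1 + r tr z`. -/
lemma norm_one_add (W : HOS) (z : 𝓞 L) (r : K) (hr : W.valuation K r ≤ 1) :
    ∃ R : K, Algebra.norm K (1 + algebraMap K L r * (z : L)) =
        1 + r * Algebra.trace K L (z : L) + r ^ 2 * R ∧ W.valuation K R ≤ 1 := by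
  classical
  haveI : FiniteDimensional K L := Module.Finite.of_restrictScalars_finite ℚ K L
  by_cases hr0 : r = 0
  · exact ⟨0, by simp [hr0], by simp⟩
  let O := (W.valuation K).integer
  let Ω := AlgebraicClosure K
  let A := integralClosure O Ω
  have hrA : algebraMap K Ω r ∈ A :=
    (isIntegral_algebraMap (R := O) (A := Ω) (x := (⟨r, hr⟩ : O)) : _)
  have hzA : ∀ σ : L →ₐ[K] Ω, σ (z : L) ∈ A := fun σ ↦
    ((RingOfIntegers.isIntegral_coe z).map σ.toRingHom.toIntAlgHom).tower_top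
  have key : ∀ s : Finset (L →ₐ[K] Ω), ∃ R ∈ A,
      ∏ σ ∈ s, (1 + algebraMap K Ω r * σ (z : L)) =
        1 + algebraMap K Ω r * ∑ σ ∈ s, σ (z : L) + algebraMap K Ω r ^ 2 * R := fun s ↦ by
    induction s using Finset.induction_on with
    | empty => exact ⟨0, A.zero_mem, by simp⟩
    | insert σ s hσ ih =>
      obtain ⟨R, hR, heq⟩ := ih
      refine ⟨R + σ (z : L) * ∑ τ ∈ s, τ (z : L) + algebraMap K Ω r * (σ (z : L) * R),
        A.add_mem (A.add_mem hR (A.mul_mem (hzA σ) (sum_mem fun τ _ ↦ hzA τ)))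
          (A.mul_mem hrA (A.mul_mem (hzA σ) hR)), ?_⟩
      rw [Finset.prod_insert hσ, Finset.sum_insert hσ, heq]
      ring
  obtain ⟨R', hR', heq⟩ := key Finset.univ
  let R := (Algebra.norm K (1 + algebraMap K L r * (z : L)) -
    (1 + r * Algebra.trace K L (z : L))) / r ^ 2
  have hR : algebraMap K Ω R = R' := by
    rw [map_div₀, map_sub (algebraMap K Ω), Algebra.norm_eq_prod_embeddings K Ω,
      map_add (algebraMap K Ω), map_one (algebraMap K Ω), map_mul (algebraMap K Ω),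
      map_pow (algebraMap K Ω), trace_eq_sum_embeddings Ω,
      div_eq_iff (pow_ne_zero _ ((map_ne_zero _).mpr hr0))]
    simp only [map_add, map_one, map_mul, AlgHom.commutes, heq]
    ring
  refine ⟨R, by simp only [R]; field_simp; ring, ?_⟩
  have hint : IsIntegral O R := (isIntegral_algebraMap_iff (algebraMap K Ω).injective).mp (hR ▸ hR')
  exact (Valuation.integer.integers (W.valuation K)).mem_of_integral hint

/-- An element of valuation at most one is congruent to an integer. -/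
lemma exists_int_close (W : HOS) (x : K) (hx : W.valuation K x ≤ 1) :
    ∃ b : 𝓞 K, W.valuation K (x - b) < 1 := by
  obtain ⟨b, hb⟩ := W.exists_valuation_sub_lt_of_integer hx 1
  exact ⟨b, by rw [Valuation.map_sub_swap]; simpa using hb⟩

/-- At finitely many places unramified in `L`, units are arbitrarily close to norms. -/
theorem exists_norm_close (S : Finset HOS)
    (hunr : ∀ W ∈ S, ∀ Q : Ideal (𝓞 L), Q.IsPrime → Q.LiesOver W.asIdeal →
      Q.ramificationIdx (𝓞 K) = 1)
    (β : K) (hβ : ∀ W ∈ S, W.valuation K β = 1) (m : ℕ) :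
    ∃ y : L, y ≠ 0 ∧ ∀ W ∈ S, W.valuation K (Algebra.norm K y / β - 1) ≤ exp (-(m : ℤ)) := by
  classical
  haveI : FiniteDimensional K L := Module.Finite.of_restrictScalars_finite ℚ K L
  rcases S.eq_empty_or_nonempty with rfl | ⟨W₀, hW₀⟩
  · exact ⟨1, one_ne_zero, by simp⟩
  have hcrt : ∀ g : HOS → 𝓞 L, ∃ y : 𝓞 L, ∀ W ∈ S,
      Ideal.Quotient.mk (W.asIdeal.map (algebraMap (𝓞 K) (𝓞 L))) y =
        Ideal.Quotient.mk _ (g W) := fun g ↦ by
    let I : S → Ideal (𝓞 L) := fun W ↦ W.1.asIdeal.map (algebraMap (𝓞 K) (𝓞 L))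
    have hI : Pairwise fun W W' ↦ IsCoprime (I W) (I W') := fun W W' h ↦ by
      show IsCoprime (I W) (I W')
      rw [Ideal.isCoprime_iff_sup_eq]
      show Ideal.map _ W.1.asIdeal ⊔ Ideal.map _ W'.1.asIdeal = ⊤
      rw [← Ideal.map_sup, W.1.isMaximal.coprime_of_ne W'.1.isMaximal
        (fun e ↦ h (Subtype.ext (HeightOneSpectrum.ext e))), Ideal.map_top]
    obtain ⟨y, hy⟩ := Ideal.exists_forall_sub_mem_ideal hI fun W ↦ g W.1
    exact ⟨y, fun W hW ↦ Ideal.Quotient.eq.mpr (hy ⟨W, hW⟩)⟩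
  have hres : ∀ W : HOS, ∃ y z : 𝓞 L, W ∈ S →
      W.valuation K (Algebra.norm K (y : L) - β) < 1 ∧
        Algebra.intTrace (𝓞 K) (𝓞 L) z ∉ W.asIdeal := fun W ↦ by
    by_cases hW : W ∈ S
    · obtain ⟨b, hb⟩ := exists_int_close W β (hβ W hW).le
      obtain ⟨h1, z, hz⟩ := exists_residue K L W (hunr W hW)
      obtain ⟨y, hy⟩ := h1 b
      refine ⟨y, z, fun _ ↦ ⟨?_, hz⟩⟩
      rw [← Algebra.algebraMap_intNorm (A := 𝓞 K) (B := 𝓞 L) (K := K) (L := L),
        show algebraMap (𝓞 K) K (Algebra.intNorm (𝓞 K) (𝓞 L) y) - β =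
          algebraMap (𝓞 K) K (Algebra.intNorm (𝓞 K) (𝓞 L) y - b) + ((b : K) - β) by
          rw [map_sub]; ring]
      refine (Valuation.map_add _ _ _).trans_lt (max_lt ((W.valuation_lt_one_iff_mem _).mpr hy) ?_)
      rwa [Valuation.map_sub_swap]
    · exact ⟨0, 0, fun h ↦ absurd h hW⟩
  choose yW zW hyz using hres
  obtain ⟨y, hy⟩ := hcrt yW
  obtain ⟨z, hz⟩ := hcrt zW
  set τ : K := Algebra.trace K L (z : L) with hτ
  have hτ1 : ∀ W ∈ S, W.valuation K τ = 1 := fun W hW ↦ by
    haveI := W.isMaximal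
    rw [hτ, ← Algebra.algebraMap_intTrace (A := 𝓞 K) (B := 𝓞 L) (K := K) (L := L),
      W.valuation_eq_one_iff_notMem, ← Ideal.Quotient.eq_zero_iff_mem,
      ← Algebra.trace_quotient_eq_of_isDedekindDomain, hz W hW,
      Algebra.trace_quotient_eq_of_isDedekindDomain, Ideal.Quotient.eq_zero_iff_mem]
    exact (hyz W hW).2
  have hy1 : ∀ W ∈ S, W.valuation K (Algebra.norm K (y : L) / β - 1) < 1 := fun W hW ↦ by
    haveI := W.isMaximal
    have h1 : Algebra.intNorm (𝓞 K) (𝓞 L) y - Algebra.intNorm (𝓞 K) (𝓞 L) (yW W) ∈ W.asIdeal := by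
      rw [← Ideal.Quotient.eq, ← norm_quotient_eq, ← norm_quotient_eq, hy W hW]
    have hβ0 : β ≠ 0 := fun h ↦ by simpa [h] using hβ W hW
    rw [show Algebra.norm K (y : L) / β - 1 = (Algebra.norm K (y : L) - β) / β by field_simp,
      map_div₀, hβ W hW, div_one,
      show Algebra.norm K (y : L) - β = algebraMap (𝓞 K) K (Algebra.intNorm (𝓞 K) (𝓞 L) y -
          Algebra.intNorm (𝓞 K) (𝓞 L) (yW W)) + (Algebra.norm K (yW W : L) - β) by
        rw [map_sub, Algebra.algebraMap_intNorm (L := L), Algebra.algebraMap_intNorm (L := L)]; ring]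
    exact (Valuation.map_add _ _ _).trans_lt
      (max_lt ((W.valuation_lt_one_iff_mem _).mpr h1) (hyz W hW).1)
  have hβ0 : β ≠ 0 := fun h ↦ by simpa [h] using hβ W₀ hW₀
  suffices h : ∃ y' : L, ∀ W ∈ S,
      W.valuation K (Algebra.norm K y' / β - 1) ≤ exp (-((m + 1 : ℕ) : ℤ)) by
    obtain ⟨y', hy'⟩ := h
    refine ⟨y', fun h0 ↦ ?_, fun W hW ↦ (hy' W hW).trans (exp_le_exp.mpr (by omega))⟩
    have := hy' W₀ hW₀
    rw [h0, Algebra.norm_zero, zero_div, zero_sub, Valuation.map_neg, map_one, ← exp_zero,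
      exp_le_exp] at this
    omega
  have hlt : ∀ (x : WithZero (Multiplicative ℤ)), x < 1 → x ≤ exp (-1 : ℤ) := fun x hx ↦ by
    by_cases hx0 : x = 0
    · simp [hx0]
    rw [← exp_log hx0] at hx ⊢
    rw [← exp_zero, exp_lt_exp] at hx
    exact exp_le_exp.mpr (by omega)
  induction m with
  | zero =>
    exact ⟨y, fun W hW ↦ by simpa using hlt _ (hy1 W hW)⟩
  | succ m ih =>
    obtain ⟨y', hy'⟩ := ih
    set δ : K := (Algebra.norm K y' / β)⁻¹ - 1 with hδ
    have hN0 : Algebra.norm K y' / β ≠ 0 := fun h ↦ by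
      have := hy' W₀ hW₀
      rw [h, zero_sub, Valuation.map_neg, map_one, ← exp_zero, exp_le_exp] at this
      omega
    have hδW : ∀ W ∈ S, W.valuation K δ ≤ exp (-((m + 1 : ℕ) : ℤ)) := fun W hW ↦ by
      have h1 : W.valuation K (Algebra.norm K y' / β) = 1 :=
        (Valuation.map_eq_of_sub_lt _ (by rw [map_one]; exact ((hy' W hW).trans_lt (by rw [← exp_zero, exp_lt_exp]; omega)))).trans (map_one _)
      rw [hδ, show (Algebra.norm K y' / β)⁻¹ - 1 =
        (Algebra.norm K y' / β)⁻¹ * -(Algebra.norm K y' / β - 1) by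
          rw [neg_sub, mul_sub, mul_one, inv_mul_cancel₀ hN0], map_mul,
        map_inv₀, h1, inv_one, one_mul, Valuation.map_neg]
      exact hy' W hW
    refine ⟨y' * (1 + algebraMap K L (δ / τ) * (z : L)), fun W hW ↦ ?_⟩
    have hr : W.valuation K (δ / τ) ≤ exp (-((m + 1 : ℕ) : ℤ)) := by
      rw [map_div₀, hτ1 W hW, div_one]; exact hδW W hW
    obtain ⟨R, hR, hR1⟩ := norm_one_add W z (δ / τ)
      (hr.trans (by rw [← exp_zero, exp_le_exp]; omega))
    have hτ0 : τ ≠ 0 := fun h ↦ by simpa [h] using hτ1 W hW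
    have heq : Algebra.norm K (y' * (1 + algebraMap K L (δ / τ) * (z : L))) / β - 1 =
        (Algebra.norm K y' / β) * ((δ / τ) ^ 2 * R) := by
      rw [map_mul, hR, ← hτ, div_mul_cancel₀ δ hτ0]
      have hδ' : Algebra.norm K y' / β * (1 + δ) = 1 := by rw [hδ, add_sub_cancel, mul_inv_cancel₀ hN0]
      linear_combination hδ'
    have h1 : W.valuation K (Algebra.norm K y' / β) = 1 :=
      (Valuation.map_eq_of_sub_lt _ (by rw [map_one]; exact ((hy' W hW).trans_lt (by rw [← exp_zero, exp_lt_exp]; omega)))).trans (map_one _)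
    rw [heq, map_mul, h1, one_mul, map_mul, map_pow]
    calc _ ≤ exp (-((m + 1 : ℕ) : ℤ)) ^ 2 * 1 := mul_le_mul' (pow_le_pow_left₀ zero_le' hr 2) hR1
      _ ≤ _ := by rw [mul_one, ← exp_nsmul, exp_le_exp, nsmul_eq_mul]; push_cast; omega

end Groth.L11.NormApprox
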