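import Groth.Agent.L11.NF.AdicHensel
import Groth.Agent.L11.NF.CodimTwo
import Mathlib.RingTheory.Discriminant
import Mathlib.RingTheory.TensorProduct.Free
import Mathlib.RingTheory.Adjoin.PowerBasis
import Mathlib.LinearAlgebra.Eigenspace.Zero
import Mathlib.LinearAlgebra.Eigenspace.Charpoly
import Mathlib.Algebra.MvPolynomial.Nilpotent
import Mathlib.FieldTheory.PrimitiveElement
import Mathlib.FieldTheory.IsAlgClosed.AlgebraicClosure
import Mathlib.RingTheory.Polynomial.UniqueFactorization
import Mathlib.FieldTheory.Minpoly.IsIntegrallyClosed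

/-!
# The norm form of a finite extension of number fields and its adjoint coefficient
-/

set_option autoImplicit false

open NumberField IsDedekindDomain
open scoped TensorProduct

namespace Groth.L11.NormForm

universe u v'

section Eigen

variable {k : Type u} [Field k] {L : Type u} [Field L] [Algebra k L] [FiniteDimensional k L]
  {K : Type v'} [Field K] [Algebra k K]

/-- A simple eigenvalue of a multiplication gives a point of `L`. -/
theorem nonempty_algHom_of_simple_root (s : K ⊗[k] L) {r : K}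
    (hroot : (LinearMap.mulLeft K s).charpoly.IsRoot r)
    (hmult : Polynomial.rootMultiplicity r (LinearMap.mulLeft K s).charpoly = 1) :
    Nonempty (L →ₐ[k] K) := by
  let φ : Module.End K (K ⊗[k] L) := LinearMap.mulLeft K s
  have hle : Module.finrank K (φ.eigenspace r) ≤ 1 :=
    (LinearMap.finrank_eigenspace_le φ r).trans hmult.le
  obtain ⟨e, he, he0⟩ :=
    ((Module.End.hasEigenvalue_iff_isRoot_charpoly φ r).2 hroot).exists_hasEigenvector
  have hspan : ∀ z ∈ φ.eigenspace r, ∃ c : K, c • e = z := fun z hz ↦ by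
    obtain ⟨c, hc⟩ := (finrank_le_one_iff.1 hle)
    obtain ⟨a, ha⟩ := hc ⟨e, he⟩
    obtain ⟨b, hb⟩ := hc ⟨z, hz⟩
    have ha' : a ≠ 0 := by rintro rfl; simp [Subtype.ext_iff] at ha; exact he0 ha.symm
    refine ⟨b / a, ?_⟩
    have hz' : z = b • (c : K ⊗[k] L) := (congrArg Subtype.val hb).symm
    rw [hz', show e = a • (c : K ⊗[k] L) from (congrArg Subtype.val ha).symm, smul_smul,
      div_mul_cancel₀ _ ha']
  have hex : ∀ l : L, ∃ c : K, c • e = ((1 : K) ⊗ₜ[k] l) * e := fun l ↦ by
    refine hspan _ ?_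
    rw [Module.End.mem_eigenspace_iff] at he ⊢
    show s * (((1 : K) ⊗ₜ[k] l) * e) = _
    rw [mul_left_comm, show s * e = r • e from he, mul_smul_comm]
  choose c hc using hex
  have hinj : ∀ {a b : K}, a • e = b • e → a = b := fun h ↦ smul_left_injective K he0 h
  exact ⟨{
    toFun := c
    map_one' := hinj (by rw [hc, ← Algebra.TensorProduct.one_def, one_mul, one_smul])
    map_mul' := fun x y ↦ hinj (by
      rw [hc, mul_comm (c x), mul_smul, hc x, ← mul_smul_comm, hc y, ← mul_assoc,
        Algebra.TensorProduct.tmul_mul_tmul, mul_one])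
    map_zero' := hinj (by rw [hc, TensorProduct.tmul_zero, zero_mul, zero_smul])
    map_add' := fun x y ↦ hinj (by rw [hc, TensorProduct.tmul_add, add_mul, add_smul, hc, hc])
    commutes' := fun a ↦ hinj (by
      rw [hc, algebraMap_smul, Algebra.algebraMap_eq_smul_one, TensorProduct.tmul_smul,
        ← Algebra.TensorProduct.one_def, smul_mul_assoc, one_mul]) }⟩

end Eigen

/-- Composition of linear changes of variables. -/
lemma lin_comp {E : Type*} [CommRing E] {n : ℕ} {U V : Matrix (Fin n) (Fin n) E} (h : U * V = 1)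
    (j : Fin n) :
    MvPolynomial.aeval (fun i ↦ ∑ l, MvPolynomial.C (V i l) * (MvPolynomial.X l : MvPolynomial (Fin n) E))
      (∑ i, MvPolynomial.C (U j i) * (MvPolynomial.X i : MvPolynomial (Fin n) E)) =
      MvPolynomial.X j := by
  simp only [map_sum, map_mul, MvPolynomial.aeval_C, MvPolynomial.aeval_X,
    MvPolynomial.algebraMap_eq, Finset.mul_sum]
  simp only [← mul_assoc, ← MvPolynomial.C_mul]
  rw [Finset.sum_comm]
  simp only [← Finset.sum_mul, ← map_sum, ← Matrix.mul_apply, h]
  simp [Matrix.one_apply]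

variable {k : Type u} [Field k] [NumberField k] (L : Type u) [Field L] [NumberField L] [Algebra k L]

/-- A basis of `L` over `k` with integral structure constants and in which `1` is integral. -/
structure IntBasis (n : ℕ) where
  b : Module.Basis (Fin n) k L
  A : Fin n → Matrix (Fin n) (Fin n) (𝓞 k)
  hA : ∀ i, (A i).map (algebraMap (𝓞 k) k) = Algebra.leftMulMatrix b (b i)
  e : Fin n → 𝓞 k
  he : ∀ i, (e i : k) = b.repr 1 i

theorem exists_intBasis : ∃ n, 1 ≤ n ∧ Nonempty (IntBasis (k := k) L n) := by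
  haveI : FiniteDimensional k L := Module.Finite.of_restrictScalars_finite ℚ k L
  obtain ⟨α, hα⟩ := Field.exists_primitive_element k L
  obtain ⟨d, hd0, hd⟩ := IsAlgebraic.exists_integral_multiple (R := 𝓞 k) (z := α)
    ((IsFractionRing.isAlgebraic_iff (𝓞 k) k L).2 (Algebra.IsAlgebraic.isAlgebraic α))
  have hgen : IntermediateField.adjoin k {d • α} = ⊤ := by
    rw [eq_top_iff, ← hα, IntermediateField.adjoin_simple_le_iff]
    have hd' : algebraMap (𝓞 k) k d ≠ 0 := RingOfIntegers.coe_ne_zero_iff.2 hd0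
    have h := IntermediateField.smul_mem _ (x := (algebraMap (𝓞 k) k d)⁻¹)
      (IntermediateField.mem_adjoin_simple_self k (d • α))
    convert h using 1
    rw [← algebraMap_smul k d α, inv_smul_smul₀ hd']
  let pb : PowerBasis k L :=
    (IntermediateField.adjoin.powerBasis (Algebra.IsIntegral.isIntegral (R := k) (d • α))).map
      ((IntermediateField.equivOfEq hgen).trans IntermediateField.topEquiv)
  have hg : IsIntegral (𝓞 k) pb.gen := by simpa [pb] using hd
  have hmin := minpoly.isIntegrallyClosed_eq_field_fractions' k hg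
  have hrepr : ∀ (m : ℕ) i, ∃ z : 𝓞 k, (z : k) = pb.basis.repr (pb.gen ^ m) i := fun m i ↦ by
    obtain ⟨z, hz⟩ := IsIntegrallyClosed.isIntegral_iff.1
      (PowerBasis.repr_gen_pow_isIntegral hg hmin m i)
    exact ⟨z, hz⟩
  choose Z hZ using hrepr
  refine ⟨pb.dim, pb.dim_pos, ⟨⟨pb.basis, fun i ↦ Matrix.of fun l j ↦ Z ((i : ℕ) + j) l, fun i ↦ ?_,
    Z 0, fun i ↦ ?_⟩⟩⟩
  · ext l j
    rw [Matrix.map_apply, Matrix.of_apply, Algebra.leftMulMatrix_eq_repr_mul, pb.basis_eq_pow,
      pb.basis_eq_pow, ← pow_add]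
    exact hZ _ _
  · rw [hZ, pow_zero]

variable {L} {n : ℕ} (ib : IntBasis (k := k) L n)

/-- The matrix of multiplication by the generic element. -/
noncomputable def M : Matrix (Fin n) (Fin n) (MvPolynomial (Fin n) (𝓞 k)) :=
  ∑ i, (MvPolynomial.X i : MvPolynomial (Fin n) (𝓞 k)) • (ib.A i).map MvPolynomial.C

/-- The norm form. -/
noncomputable def normForm : MvPolynomial (Fin n) (𝓞 k) := (M ib).det

/-- The coefficient of degree one of the generic characteristic polynomial. -/
noncomputable def adjForm : MvPolynomial (Fin n) (𝓞 k) := (M ib).charpoly.coeff 1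

section Point

variable {K : Type v'} [Field K] [Algebra k K]

/-- The element with coordinates `x`. -/
noncomputable def el (x : Fin n → K) : K ⊗[k] L :=
  (Algebra.TensorProduct.basis K ib.b).equivFun.symm x

/-- Evaluation at a point. -/
noncomputable def ev (x : Fin n → K) : MvPolynomial (Fin n) (𝓞 k) →+* K :=
  (MvPolynomial.aeval x).toRingHom.comp (MvPolynomial.map (algebraMap (𝓞 k) k))

theorem map_M (x : Fin n → K) :
    (M ib).map (ev x) =
      Algebra.leftMulMatrix (Algebra.TensorProduct.basis K ib.b) (el ib x) := by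
  have h1 : ∀ i, Algebra.leftMulMatrix (Algebra.TensorProduct.basis K ib.b)
      (Algebra.TensorProduct.basis K ib.b i) =
        (Algebra.leftMulMatrix ib.b (ib.b i)).map (algebraMap k K) := fun i ↦ by
    ext l j
    rw [Matrix.map_apply, Algebra.leftMulMatrix_eq_repr_mul, Algebra.leftMulMatrix_eq_repr_mul,
      Algebra.TensorProduct.basis_apply, Algebra.TensorProduct.basis_apply,
      Algebra.TensorProduct.tmul_mul_tmul, mul_one, Algebra.TensorProduct.basis_repr_tmul]
    simp
  rw [el, Module.Basis.equivFun_symm_apply, map_sum]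
  refine Matrix.ext fun l j ↦ ?_
  simp only [M, Matrix.map_apply, Matrix.sum_apply, Matrix.smul_apply, map_sum, smul_eq_mul,
    map_mul, map_smul, h1, ← ib.hA]
  simp [ev]

theorem ev_normForm (x : Fin n → K) :
    ev x (normForm ib) = Algebra.norm K (el ib x) := by
  rw [normForm, RingHom.map_det, RingHom.mapMatrix_apply, map_M,
    ← Algebra.norm_eq_matrix_det]

theorem ev_charpoly (x : Fin n → K) :
    (M ib).charpoly.map (ev x) = (LinearMap.mulLeft K (el ib x)).charpoly := by
  rw [← Matrix.charpoly_map, map_M, Algebra.leftMulMatrix_apply]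
  exact LinearMap.charpoly_toMatrix _ _

/-- The point with coordinates those of `1`. -/
theorem ev_normForm_one :
    ev (fun i ↦ algebraMap k K (ib.e i : k)) (normForm ib) = 1 := by
  rw [ev_normForm]
  suffices el ib (fun i ↦ algebraMap k K (ib.e i : k)) = 1 by rw [this, map_one]
  rw [el, LinearEquiv.symm_apply_eq]
  funext i
  rw [Module.Basis.equivFun_apply, Algebra.TensorProduct.one_def,
    Algebra.TensorProduct.basis_repr_tmul]
  simp [ib.he, Algebra.smul_def]

theorem exists_ev_eq_norm (y : K ⊗[k] L) : ∃ x : Fin n → K, ev x (normForm ib) = Algebra.norm K y :=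
  ⟨(Algebra.TensorProduct.basis K ib.b).equivFun y, by
    rw [ev_normForm, el, LinearEquiv.symm_apply_apply]⟩

end Point

/-- At an integral point where the norm form is a non-unit and the adjoint form is a unit,
`L` has a place of degree one. -/
theorem nonempty_algHom_of_forms [FiniteDimensional k L]
    (v : HeightOneSpectrum (RingOfIntegers k)) (P : Fin n → k) (hP : ∀ i, v.valuation k (P i) ≤ 1)
    (h0 : v.valuation k (ev P (normForm ib)) < 1)
    (h1 : v.valuation k (ev P (adjForm ib)) = 1) :
    Nonempty (L →ₐ[k] v.adicCompletion k) := by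
  let x : Fin n → v.adicCompletion k := fun i ↦ algebraMap k _ (P i)
  have hev : ∀ F : MvPolynomial (Fin n) (𝓞 k),
      ev x F = algebraMap k (v.adicCompletion k) (ev P F) := fun F ↦ by
    show MvPolynomial.aeval (algebraMap k (v.adicCompletion k) ∘ P) _ = _
    rw [MvPolynomial.aeval_algebraMap_apply]
    rfl
  have hval : ∀ F : MvPolynomial (Fin n) (𝓞 k),
      Valued.v (ev x F) = v.valuation k (ev P F) := fun F ↦ by
    rw [hev]; exact CodimTwo.valued_algebraMap v _
  set χ := (LinearMap.mulLeft (v.adicCompletion k) (el ib x)).charpoly with hχdef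
  have hχ : χ = (M ib).charpoly.map (ev x) := (ev_charpoly ib x).symm
  have hc : ∀ i, χ.coeff i = ev x ((M ib).charpoly.coeff i) := fun i ↦ by
    rw [hχ, Polynomial.coeff_map]
  obtain ⟨r, hr, hr1⟩ := AdicHensel.exists_simple_root v χ (LinearMap.charpoly_monic _)
    (fun i ↦ by
      rw [hc, hval]
      exact CodimTwo.val_aeval_le_one (v.valuation k) (fun r ↦ v.valuation_le_one r) _ P hP)
    (by
      rw [hc, hval]
      have hdet := (M ib).det_eq_sign_charpoly_coeff
      rw [normForm, hdet, map_mul, map_mul] at h0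
      rcases neg_one_pow_eq_or (MvPolynomial (Fin n) (𝓞 k)) (Fintype.card (Fin n)) with h | h <;>
        rw [h] at h0 <;> simpa using h0)
    (by rw [hc, hval]; exact h1)
  exact nonempty_algHom_of_simple_root (el ib x) hr hr1

/-- The common zero locus of the two forms has codimension at least two. -/
theorem ringKrullDim_quotient_add_two_le (ib : IntBasis (k := k) L n) [FiniteDimensional k L] :
    ringKrullDim (MvPolynomial (Fin n) k ⧸ Ideal.span (Set.range fun j =>
        MvPolynomial.map (algebraMap (𝓞 k) k) (![normForm ib, adjForm ib] j))) + 2 ≤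
      (n : WithBot ℕ∞) := by
  classical
  let E := AlgebraicClosure k
  have hcard : Fintype.card (L →ₐ[k] E) = n := by
    rw [AlgHom.card, Module.finrank_eq_card_basis ib.b, Fintype.card_fin]
  let σ : Fin n ≃ (L →ₐ[k] E) := (Fintype.equivFinOfCardEq hcard).symm
  let V : Matrix (Fin n) (Fin n) E := (Algebra.embeddingsMatrixReindex k E ib.b σ).transpose
  have hV : V.det ≠ 0 := by
    rw [Matrix.det_transpose]
    intro h
    have := Algebra.discr_eq_det_embeddingsMatrixReindex_pow_two k E (b := ib.b) σ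
    rw [h, zero_pow two_ne_zero, map_eq_zero] at this
    exact Algebra.discr_not_zero_of_basis k ib.b this
  let W : Fin n → MvPolynomial (Fin n) E := fun i ↦ ∑ j, MvPolynomial.C (V⁻¹ i j) * MvPolynomial.X j
  let y : Fin n → MvPolynomial (Fin n) E := fun j ↦ ∑ i, MvPolynomial.C (V j i) * MvPolynomial.X i
  have hunit : IsUnit V.det := isUnit_iff_ne_zero.2 hV
  let ψ : (MvPolynomial (Fin n) E) ≃ₐ[E] MvPolynomial (Fin n) E := AlgEquiv.ofAlgHom (MvPolynomial.aeval W) (MvPolynomial.aeval y)
    (MvPolynomial.algHom_ext fun j ↦ by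
      rw [AlgHom.comp_apply, MvPolynomial.aeval_X, AlgHom.id_apply]
      exact lin_comp (Matrix.mul_nonsing_inv _ hunit) j)
    (MvPolynomial.algHom_ext fun j ↦ by
      rw [AlgHom.comp_apply, MvPolynomial.aeval_X, AlgHom.id_apply]
      exact lin_comp (Matrix.nonsing_inv_mul _ hunit) j)
  let Φ : MvPolynomial (Fin n) k →+* MvPolynomial (Fin n) E :=
    ψ.toAlgHom.toRingHom.comp (MvPolynomial.map (algebraMap k E))
  have hΦinj : Function.Injective Φ :=
    ψ.injective.comp (MvPolynomial.map_injective _ (algebraMap k E).injective)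
  have hΦunit : ∀ p, IsUnit (Φ p) → IsUnit p := fun p hp ↦ by
    have h1 : IsUnit (MvPolynomial.map (algebraMap k E) p) := by
      simpa [Φ] using hp.map ψ.symm
    obtain ⟨r, hr, hp'⟩ := MvPolynomial.isUnit_iff_eq_C_of_isReduced.1 h1
    have h0 := congrArg (MvPolynomial.coeff 0) hp'
    rw [MvPolynomial.coeff_map, MvPolynomial.coeff_zero_C] at h0
    have : p = MvPolynomial.C (MvPolynomial.coeff 0 p) :=
      MvPolynomial.map_injective _ (algebraMap k E).injective (by rw [hp', MvPolynomial.map_C, h0])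
    rw [this]
    refine (isUnit_iff_ne_zero.2 fun hz ↦ ?_).map _
    rw [hz, map_zero] at h0
    exact hr.ne_zero h0.symm
  let MR : Matrix (Fin n) (Fin n) (MvPolynomial (Fin n) E) := ((M ib).map (MvPolynomial.map (algebraMap (𝓞 k) k))).map Φ
  let VR : Matrix (Fin n) (Fin n) (MvPolynomial (Fin n) E) := V.map MvPolynomial.C
  have hVR : IsUnit VR := by
    have h : IsUnit V := (Matrix.isUnit_iff_isUnit_det _).2 hunit
    exact h.map (MvPolynomial.C : E →+* (MvPolynomial (Fin n) E)).mapMatrix
  have hconj : VR * MR = Matrix.diagonal (MvPolynomial.X : Fin n → (MvPolynomial (Fin n) E)) * VR := by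
    have hMR : MR = ∑ i, W i • ((Algebra.leftMulMatrix ib.b (ib.b i)).map
        (fun a ↦ MvPolynomial.C (algebraMap k E a))) := by
      refine Matrix.ext fun l j ↦ ?_
      simp [MR, M, ← ib.hA, Φ, ψ, Matrix.sum_apply, map_sum, map_mul]
    refine Matrix.ext fun j m ↦ ?_
    rw [hMR, Matrix.diagonal_mul, Matrix.mul_apply]
    simp only [Matrix.sum_apply, Matrix.smul_apply, Matrix.map_apply, VR, smul_eq_mul,
      Finset.mul_sum]
    rw [Finset.sum_comm]
    have h2 : ∀ i, ∑ l, MvPolynomial.C (V j l) *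
        (W i * MvPolynomial.C (algebraMap k E (Algebra.leftMulMatrix ib.b (ib.b i) l m))) =
        W i * MvPolynomial.C (V j i) * MvPolynomial.C (V j m) := fun i ↦ by
      simp only [mul_left_comm (MvPolynomial.C (V j _)) (W i), ← MvPolynomial.C_mul, ← Finset.mul_sum,
        ← map_sum, mul_assoc]
      congr 2
      simp only [V, Matrix.transpose_apply, Algebra.embeddingsMatrixReindex,
        Matrix.reindex_apply, Matrix.submatrix_apply, Algebra.embeddingsMatrix, Equiv.symm_symm,
        Equiv.refl_symm, Equiv.refl_apply, Matrix.of_apply]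
      rw [← map_mul (σ j), ← Module.Basis.sum_repr ib.b (ib.b i * ib.b m), map_sum]
      refine Finset.sum_congr rfl fun l _ ↦ ?_
      rw [Algebra.smul_def, map_mul, AlgHom.commutes, mul_comm, Algebra.leftMulMatrix_eq_repr_mul]
    rw [Finset.sum_congr rfl fun i _ ↦ h2 i, ← Finset.sum_mul]
    congr 1
    have h3 := congr($(ψ.apply_symm_apply (MvPolynomial.X j)))
    change MvPolynomial.aeval W (MvPolynomial.aeval y (MvPolynomial.X j)) = _ at h3
    rw [MvPolynomial.aeval_X] at h3
    simp only [y, map_sum, map_mul, MvPolynomial.aeval_C, MvPolynomial.aeval_X] at h3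
    rw [← h3]
    exact Finset.sum_congr rfl fun i _ ↦ mul_comm _ _
  have hchar : MR.charpoly = ∏ j, (Polynomial.X - Polynomial.C (MvPolynomial.X j : (MvPolynomial (Fin n) E))) := by
    obtain ⟨U, hU⟩ := hVR
    rw [← Matrix.charpoly_units_conj U MR, hU, hconj, ← hU, mul_assoc,
      Matrix.mul_nonsing_inv _ ((Matrix.isUnit_iff_isUnit_det _).1 U.isUnit), mul_one,
      Matrix.charpoly_diagonal]
  set a := MvPolynomial.map (algebraMap (𝓞 k) k) (normForm ib) with ha
  set c := MvPolynomial.map (algebraMap (𝓞 k) k) (adjForm ib) with hc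
  have hΦa : Φ a = ∏ j, (MvPolynomial.X j : (MvPolynomial (Fin n) E)) := by
    have h : Φ a = MR.det := by
      rw [ha, normForm, RingHom.map_det, RingHom.map_det]
      rfl
    have hdet := congrArg Matrix.det hconj
    rw [Matrix.det_mul, Matrix.det_mul, Matrix.det_diagonal,
      mul_comm (∏ i, (MvPolynomial.X i : (MvPolynomial (Fin n) E)))] at hdet
    rw [h]
    exact mul_left_cancel₀ ((Matrix.isUnit_iff_isUnit_det _).1 hVR).ne_zero hdet
  have hΦc : Φ c = (∏ j, (Polynomial.X - Polynomial.C (MvPolynomial.X j : (MvPolynomial (Fin n) E)))).coeff 1 := by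
    rw [← hchar, hc, adjForm, ← Polynomial.coeff_map, ← Matrix.charpoly_map,
      ← Polynomial.coeff_map, ← Matrix.charpoly_map]
  have hcop : ∀ p, Prime p → p ∣ a → ¬ p ∣ c := by
    intro p hp hpa hpc
    obtain ⟨q, hq, hqp⟩ := WfDvdMonoid.exists_irreducible_factor (a := Φ p)
      (fun h ↦ hp.not_unit (hΦunit p h)) (fun h ↦ hp.ne_zero (hΦinj (h.trans (map_zero _).symm)))
    have hqa : q ∣ ∏ j, (MvPolynomial.X j : (MvPolynomial (Fin n) E)) := hΦa ▸ hqp.trans (map_dvd Φ hpa)
    obtain ⟨j, -, hj⟩ := (UniqueFactorizationMonoid.irreducible_iff_prime.1 hq).exists_mem_finset_dvd hqa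
    have hXj : (MvPolynomial.X j : (MvPolynomial (Fin n) E)) ∣ Φ c :=
      (hq.associated_of_dvd (MvPolynomial.X_prime (i := j)).irreducible hj).symm.dvd.trans
        (hqp.trans (map_dvd Φ hpc))
    let θ : (MvPolynomial (Fin n) E) →ₐ[E] MvPolynomial (Fin n) E := MvPolynomial.aeval fun l ↦ if l = j then 0 else MvPolynomial.X l
    have h0 : θ (Φ c) = 0 := by
      obtain ⟨z, hz⟩ := hXj
      rw [hz, map_mul, show θ (MvPolynomial.X j : (MvPolynomial (Fin n) E)) = 0 from
        (MvPolynomial.aeval_X _ j).trans (if_pos rfl), zero_mul]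
    rw [hΦc] at h0
    change θ.toRingHom _ = 0 at h0
    rw [← Polynomial.coeff_map, Polynomial.map_prod, ← Finset.mul_prod_erase _ _ (Finset.mem_univ j)] at h0
    simp only [Polynomial.map_sub, Polynomial.map_X, Polynomial.map_C] at h0
    have hθj : θ.toRingHom (MvPolynomial.X j) = 0 := (MvPolynomial.aeval_X _ j).trans (if_pos rfl)
    rw [hθj, map_zero, sub_zero, Polynomial.coeff_X_mul, Polynomial.coeff_zero_eq_eval_zero,
      Polynomial.eval_prod] at h0
    obtain ⟨l, hl, hl0⟩ := Finset.prod_eq_zero_iff.1 h0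
    rw [Polynomial.eval_sub, Polynomial.eval_X, Polynomial.eval_C, zero_sub, neg_eq_zero,
      show θ.toRingHom (MvPolynomial.X l) = MvPolynomial.X l from
        (MvPolynomial.aeval_X _ l).trans (if_neg (Finset.ne_of_mem_erase hl))] at hl0
    exact MvPolynomial.X_ne_zero l hl0
  have ha0 : a ≠ 0 := fun h ↦ by
    rw [h, map_zero] at hΦa
    exact Finset.prod_ne_zero_iff.2 (fun j _ ↦ MvPolynomial.X_ne_zero j) hΦa.symm
  set I := Ideal.span (Set.range fun j =>
        MvPolynomial.map (algebraMap (𝓞 k) k) (![normForm ib, adjForm ib] j)) with hI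
  have haI : a ∈ I := Ideal.subset_span ⟨0, rfl⟩
  have hcI : c ∈ I := Ideal.subset_span ⟨1, rfl⟩
  have h2 : ∀ P : PrimeSpectrum (MvPolynomial (Fin n) k), I ≤ P.asIdeal →
      (2 : ℕ∞) ≤ Order.height P := by
    intro P hP
    haveI := P.2
    have hbot : P.asIdeal ≠ ⊥ := fun h ↦ ha0 (by simpa [h] using hP haI)
    obtain ⟨p, hpP, hp⟩ := P.2.exists_mem_prime_of_ne_bot hbot
    haveI hprime : (Ideal.span {p}).IsPrime := (Ideal.span_singleton_prime hp.ne_zero).2 hp
    let Q : PrimeSpectrum (MvPolynomial (Fin n) k) := ⟨Ideal.span {p}, hprime⟩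
    let Z : PrimeSpectrum (MvPolynomial (Fin n) k) := ⟨⊥, Ideal.bot_prime⟩
    have hZQ : Z < Q := by
      refine lt_of_le_of_ne bot_le fun h ↦ hp.ne_zero ?_
      have h' : (⊥ : Ideal _) = Ideal.span {p} := congrArg PrimeSpectrum.asIdeal h
      exact Ideal.span_singleton_eq_bot.1 h'.symm
    have hQP : Q < P := by
      refine lt_of_le_of_ne ((Ideal.span_singleton_le_iff_mem _).2 hpP) fun h ↦ ?_
      have h' : Ideal.span {p} = P.asIdeal := congrArg PrimeSpectrum.asIdeal h
      exact hcop p hp (Ideal.mem_span_singleton.1 (h' ▸ hP haI))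
        (Ideal.mem_span_singleton.1 (h' ▸ hP hcI))
    calc (2 : ℕ∞) = 0 + 1 + 1 := rfl
      _ ≤ Order.height Z + 1 + 1 := by gcongr; exact zero_le
      _ ≤ Order.height Q + 1 := by gcongr; exact Order.height_add_one_le hZQ
      _ ≤ Order.height P := Order.height_add_one_le hQP
  rw [ringKrullDim_quotient]
  unfold Order.krullDim
  rcases isEmpty_or_nonempty (LTSeries (PrimeSpectrum.zeroLocus (R := MvPolynomial (Fin n) k) I)) with h | h
  · simp
  show (⨆ l : LTSeries (PrimeSpectrum.zeroLocus (R := MvPolynomial (Fin n) k) I),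
    (((l.length : ℕ∞)) : WithBot ℕ∞)) + 2 ≤ (((n : ℕ∞)) : WithBot ℕ∞)
  rw [← WithBot.coe_iSup (OrderTop.bddAbove _)]
  rw [show (2 : WithBot ℕ∞) = ((2 : ℕ∞) : WithBot ℕ∞) from rfl, ← WithBot.coe_add, WithBot.coe_le_coe]
  rw [ENat.iSup_add]
  refine iSup_le fun l ↦ ?_
  have hlen : ∀ i : Fin (l.length + 1), (2 : ℕ∞) + ((i : ℕ) : ℕ∞) ≤ Order.height (l i).1 := by
    intro i
    induction i using Fin.induction with
    | zero => simpa using h2 _ (l 0).2
    | succ i ih =>
      refine le_trans ?_ (Order.height_add_one_le (show (l i.castSucc).1 < (l i.succ).1 from l.step i))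
      refine le_trans (le_of_eq ?_) (add_le_add_left ih 1)
      simp [add_assoc]
  have hn : ((Order.height (l (Fin.last l.length)).1 : ℕ∞) : WithBot ℕ∞) ≤ ((n : ℕ∞) : WithBot ℕ∞) := by
    refine (Order.height_le_krullDim _).trans_eq ?_
    show ringKrullDim _ = _
    rw [MvPolynomial.ringKrullDim_of_isNoetherianRing, ringKrullDim_eq_zero_of_field]
    simp
  have := (hlen (Fin.last _)).trans (WithBot.coe_le_coe.1 hn)
  rw [add_comm]
  simpa using this

end Groth.L11.NormForm
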