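import Groth.Agent.L11.NF.CodimTwo
import Mathlib.NumberTheory.RamificationInertia.Valuation
import Mathlib.Topology.Algebra.UniformRing
import Mathlib.RingTheory.QuasiFinite.Basic
import Mathlib.RingTheory.Ideal.GoingUp
import Mathlib.FieldTheory.Normal.Basic
import Mathlib.FieldTheory.Galois.Basic
import Mathlib.RingTheory.IntegralClosure.IntegrallyClosed
import Mathlib.RingTheory.Trace.Basic
import Mathlib.LinearAlgebra.FreeModule.Finite.Matrix

/-!
# Places of an extension of number fields: valuations, bounds on traces, and completions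
-/

set_option autoImplicit false

open NumberField IsDedekindDomain

namespace Groth.L11.Places

universe u

variable {k K : Type u} [Field k] [NumberField k] [Field K] [NumberField K] [Algebra k K]
  (v : HeightOneSpectrum (RingOfIntegers k)) (W : HeightOneSpectrum (RingOfIntegers K))

lemma val_algebraMap [W.asIdeal.LiesOver v.asIdeal] (x : k) :
    W.valuation K (algebraMap k K x) =
      v.valuation k x ^ v.asIdeal.ramificationIdx' W.asIdeal :=
  (HeightOneSpectrum.valuation_liesOver K v W x).symm

lemma val_algebraMap_le_one [W.asIdeal.LiesOver v.asIdeal] (x : k) :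
    W.valuation K (algebraMap k K x) ≤ 1 ↔ v.valuation k x ≤ 1 := by
  rw [val_algebraMap v, pow_le_one_iff
    (Ideal.IsDedekindDomain.ramificationIdx'_ne_zero_of_liesOver W.asIdeal v.ne_bot)]

lemma val_algebraMap_eq_one [W.asIdeal.LiesOver v.asIdeal] (x : k) :
    W.valuation K (algebraMap k K x) = 1 ↔ v.valuation k x = 1 := by
  rw [val_algebraMap v, pow_eq_one_iff_left
    (Ideal.IsDedekindDomain.ramificationIdx'_ne_zero_of_liesOver W.asIdeal v.ne_bot)]

lemma val_algebraMap_lt_one [W.asIdeal.LiesOver v.asIdeal] (x : k) :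
    W.valuation K (algebraMap k K x) < 1 ↔ v.valuation k x < 1 := by
  rw [lt_iff_le_and_ne, lt_iff_le_and_ne, val_algebraMap_le_one v, ne_eq, ne_eq,
    val_algebraMap_eq_one v]

/-- The place below. -/
noncomputable def under : HeightOneSpectrum (RingOfIntegers k) := W.under (RingOfIntegers k)

instance liesOver_under : W.asIdeal.LiesOver (under (k := k) W).asIdeal := ⟨rfl⟩

lemma eq_of_liesOver (v v' : HeightOneSpectrum (RingOfIntegers k))
    (h : W.asIdeal.LiesOver v.asIdeal) (h' : W.asIdeal.LiesOver v'.asIdeal) : v = v' :=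
  HeightOneSpectrum.ext (h.over.trans h'.over.symm)

lemma finite_above : {W : HeightOneSpectrum (RingOfIntegers K) | W.asIdeal.LiesOver v.asIdeal}.Finite := by
  refine (Set.Finite.of_finite_image (f := HeightOneSpectrum.asIdeal) ?_
    fun a _ b _ h ↦ HeightOneSpectrum.ext h)
  refine (Algebra.QuasiFinite.finite_primesOver (R := RingOfIntegers k) (S := RingOfIntegers K)
    v.asIdeal).subset ?_
  rintro _ ⟨W, hW, rfl⟩
  exact ⟨W.isPrime, hW⟩

/-- The places above `v`, as a finset. -/
noncomputable def above : Finset (HeightOneSpectrum (RingOfIntegers K)) := (finite_above v).toFinset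

lemma mem_above : W ∈ above (K := K) v ↔ W.asIdeal.LiesOver v.asIdeal :=
  (finite_above v).mem_toFinset

/-- An element integral at all places above `v` becomes integral after multiplication by a
`v`-unit of `k`. -/
lemma exists_denominator (x : K)
    (hx : ∀ W : HeightOneSpectrum (RingOfIntegers K), W.asIdeal.LiesOver v.asIdeal → W.valuation K x ≤ 1) :
    ∃ s : RingOfIntegers k, s ∉ v.asIdeal ∧ IsIntegral ℤ (algebraMap k K s * x) := by
  classical
  let D : Ideal (RingOfIntegers K) :=
    { carrier := {d | IsIntegral ℤ ((d : K) * x)}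
      add_mem' := fun {a b} ha hb ↦ by
        show IsIntegral ℤ (algebraMap (RingOfIntegers K) K (a + b) * x)
        rw [map_add, add_mul]; exact IsIntegral.add ha hb
      zero_mem' := by
        show IsIntegral ℤ (algebraMap (RingOfIntegers K) K 0 * x)
        rw [map_zero, zero_mul]; exact isIntegral_zero
      smul_mem' := fun c {a} ha ↦ by
        show IsIntegral ℤ (algebraMap (RingOfIntegers K) K (c * a) * x)
        rw [map_mul, mul_assoc]; exact IsIntegral.mul (RingOfIntegers.isIntegral_coe c) ha }
  suffices h : ¬ D.comap (algebraMap (RingOfIntegers k) (RingOfIntegers K)) ≤ v.asIdeal by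
    obtain ⟨s, hs, hsv⟩ := SetLike.not_le_iff_exists.mp h
    refine ⟨s, hsv, ?_⟩
    have h1 : IsIntegral ℤ (algebraMap (RingOfIntegers K) K (algebraMap (RingOfIntegers k) (RingOfIntegers K) s) * x) := hs
    rwa [← IsScalarTower.algebraMap_apply (RingOfIntegers k) (RingOfIntegers K) K,
      IsScalarTower.algebraMap_apply (RingOfIntegers k) k K] at h1
  intro hle
  obtain ⟨Q, hDQ, hQp, hQ⟩ := Ideal.exists_ideal_over_prime_of_isIntegral (S := RingOfIntegers K)
    v.asIdeal D hle
  have hlo : Q.LiesOver v.asIdeal := ⟨hQ.symm⟩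
  let W : HeightOneSpectrum (RingOfIntegers K) :=
    ⟨Q, hQp, Ideal.ne_bot_of_liesOver_of_ne_bot v.ne_bot Q⟩
  obtain ⟨n, d, hnd⟩ := W.exists_primeCompl_mul_eq_of_integer x (hx W hlo)
  refine d.2 (hDQ ?_)
  show IsIntegral ℤ (((d : RingOfIntegers K) : K) * x)
  rw [mul_comm, hnd]
  exact RingOfIntegers.isIntegral_coe n

/-- The trace of an element integral at all places above `v` is integral at `v`. -/
lemma val_trace_le_one (x : K)
    (hx : ∀ W : HeightOneSpectrum (RingOfIntegers K), W.asIdeal.LiesOver v.asIdeal → W.valuation K x ≤ 1) :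
    v.valuation k (Algebra.trace k K x) ≤ 1 := by
  haveI : FiniteDimensional k K := Module.Finite.of_restrictScalars_finite ℚ k K
  obtain ⟨s, hs, hint⟩ := exists_denominator v x hx
  have h1 : IsIntegral ℤ ((s : k) * Algebra.trace k K x) := by
    have h2 := Algebra.isIntegral_trace (L := k) (R := ℤ) hint
    rwa [← Algebra.smul_def, map_smul, smul_eq_mul] at h2
  have h3 := v.valuation_le_one (K := k) (⟨_, h1⟩ : RingOfIntegers k)
  change v.valuation k ((s : k) * Algebra.trace k K x) ≤ 1 at h3
  rwa [map_mul, (v.valuation_eq_one_iff_notMem).mpr hs, one_mul] at h3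

/-- The places of `k` below a place where `x` is not integral are finite in number. -/
lemma finite_bad (x : K) :
    {v : HeightOneSpectrum (RingOfIntegers k) | ∃ W : HeightOneSpectrum (RingOfIntegers K),
      W.asIdeal.LiesOver v.asIdeal ∧ 1 < W.valuation K x}.Finite := by
  refine ((HeightOneSpectrum.Support.finite (RingOfIntegers K) x).image (under (k := k))).subset ?_
  rintro v ⟨W, hW, hx⟩
  exact ⟨W, hx, eq_of_liesOver W _ _ (liesOver_under W) hW⟩

/-- The map of completions at a place and a place above it. -/
theorem exists_completionMap [W.asIdeal.LiesOver v.asIdeal] :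
    ∃ φ : v.adicCompletion k →+* W.adicCompletion K,
      ∀ x : k, φ (algebraMap k (v.adicCompletion k) x) =
        algebraMap K (W.adicCompletion K) (algebraMap k K x) := by
  let f := algebraMap (WithVal (v.valuation k)) (WithVal (W.valuation K))
  have hf : Continuous f :=
    (HeightOneSpectrum.uniformContinuous_algebraMap_liesOver k K v W).continuous
  refine ⟨((HeightOneSpectrum.adicCompletion.equiv K W).symm.toRingHom.comp
    (UniformSpace.Completion.mapRingHom f hf)).comp
    (HeightOneSpectrum.adicCompletion.equiv k v).toRingHom, fun x ↦ ?_⟩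
  apply HeightOneSpectrum.adicCompletion.ext
  show UniformSpace.Completion.map f ((x : k) : (v.valuation k).Completion) = _
  rw [UniformSpace.Completion.map_coe
    (HeightOneSpectrum.uniformContinuous_algebraMap_liesOver k K v W)]
  rfl

/-- If a normal extension `N` containing `L` has a place of degree one over `v`, then `L` has a
place of degree one over every place of the Galois extension `K` above `v`. -/
theorem nonempty_algHom_above [IsGalois k K] [W.asIdeal.LiesOver v.asIdeal]
    (L : Type u) [Field L] [Algebra k L] [Algebra K L] [IsScalarTower k K L]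
    (N : Type u) [Field N] [Algebra k N] [Normal k N] (ι : L →ₐ[k] N)
    (hv : Nonempty (N →ₐ[k] v.adicCompletion k)) :
    Nonempty (L →ₐ[K] W.adicCompletion K) := by
  haveI : FiniteDimensional k K := Module.Finite.of_restrictScalars_finite ℚ k K
  obtain ⟨j⟩ := hv
  obtain ⟨φ, hφ⟩ := exists_completionMap (K := K) v W
  let ψ : N →+* W.adicCompletion K := φ.comp j.toRingHom
  have hψ : ∀ x : k, ψ (algebraMap k N x) = algebraMap K (W.adicCompletion K) (algebraMap k K x) :=
    fun x ↦ by
      show φ (j (algebraMap k N x)) = _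
      rw [j.commutes]
      exact hφ x
  letI : Algebra k (W.adicCompletion K) :=
    ((algebraMap K (W.adicCompletion K)).comp (algebraMap k K)).toAlgebra
  haveI : IsScalarTower k K (W.adicCompletion K) := IsScalarTower.of_algebraMap_eq fun _ ↦ rfl
  let ψ' : N →ₐ[k] W.adicCompletion K := ⟨ψ, hψ⟩
  let f : K →ₐ[k] W.adicCompletion K := ψ'.comp (ι.comp (IsScalarTower.toAlgHom k K L))
  have hinj : Function.Injective fun σ : K ≃ₐ[k] K ↦ f.comp σ.toAlgHom := fun a b h ↦
    AlgEquiv.ext fun x ↦ f.toRingHom.injective (AlgHom.congr_fun h x)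
  obtain ⟨σ, hσ⟩ := ((Fintype.bijective_iff_injective_and_card _).mpr ⟨hinj,
    le_antisymm (Fintype.card_le_of_injective _ hinj) (by
      rw [← Nat.card_eq_fintype_card (α := K ≃ₐ[k] K), IsGalois.card_aut_eq_finrank]
      rw [← Nat.card_eq_fintype_card]
      exact card_algHom_le_finrank k K (W.adicCompletion K))⟩).2 (IsScalarTower.toAlgHom k K (W.adicCompletion K))
  letI : Algebra K N := (ι.toRingHom.comp (algebraMap K L)).toAlgebra
  haveI : IsScalarTower k K N := IsScalarTower.of_algebraMap_eq fun x ↦ by
    show algebraMap k N x = ι (algebraMap K L (algebraMap k K x))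
    rw [← IsScalarTower.algebraMap_apply, ι.commutes]
  let g : L →ₐ[k] W.adicCompletion K := (ψ'.comp (σ.liftNormal N).toAlgHom).comp ι
  refine ⟨{ g.toRingHom with commutes' := fun x ↦ ?_ }⟩
  show ψ' (σ.liftNormal N (algebraMap K N x)) = _
  rw [AlgEquiv.liftNormal_commutes]
  exact AlgHom.congr_fun hσ x

end Groth.L11.Places
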