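import Groth.Agent.L11.NF.NormForm
import Mathlib.RingTheory.Norm.Transitivity
import Mathlib.LinearAlgebra.TensorProduct.Pi

/-!
# The relative norm of a tower `L/K/k` on points with coordinates over `k`
-/

set_option autoImplicit false

open scoped TensorProduct

namespace Groth.L11.RelNorm

universe u v w

variable {k K L : Type u} [Field k] [Field K] [Field L] [Algebra k K] [Algebra K L] [Algebra k L]
  [IsScalarTower k K L]
  (R : Type v) [CommRing R] [Algebra k R]

/-- `R ⊗ L` as an algebra over `R ⊗ K`. -/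
@[reducible] noncomputable def towerAlg (k K L : Type u) [Field k] [Field K] [Field L] [Algebra k K]
    [Algebra K L] [Algebra k L] [IsScalarTower k K L] (R : Type v) [CommRing R] [Algebra k R] :
    Algebra (R ⊗[k] K) (R ⊗[k] L) :=
  (Algebra.TensorProduct.map (AlgHom.id k R) (IsScalarTower.toAlgHom k K L)).toRingHom.toAlgebra

attribute [local instance] towerAlg

lemma algebraMap_tmul (r : R) (a : K) :
    algebraMap (R ⊗[k] K) (R ⊗[k] L) (r ⊗ₜ a) = r ⊗ₜ algebraMap K L a := rfl

lemma smul_tmul_tmul (r r' : R) (a : K) (l : L) :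
    (r ⊗ₜ[k] a) • (r' ⊗ₜ[k] l) = (r * r') ⊗ₜ[k] (a • l) := by
  rw [Algebra.smul_def, algebraMap_tmul, Algebra.TensorProduct.tmul_mul_tmul, Algebra.smul_def]

instance : IsScalarTower R (R ⊗[k] K) (R ⊗[k] L) := IsScalarTower.of_algebraMap_eq fun r ↦ by
  show r ⊗ₜ[k] (1 : L) = algebraMap (R ⊗[k] K) (R ⊗[k] L) (r ⊗ₜ[k] (1 : K))
  rw [algebraMap_tmul, map_one]

variable {ι : Type w} [Fintype ι] [DecidableEq ι] (c : Module.Basis ι K L)

/-- Coordinates of `R ⊗ L` over `R ⊗ K`. -/
noncomputable def coordK : R ⊗[k] L ≃ₗ[k] (ι → R ⊗[k] K) :=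
  (LinearEquiv.lTensor R (c.equivFun.restrictScalars k)).trans (TensorProduct.piRight k k R fun _ : ι ↦ K)

lemma coordK_tmul (r : R) (l : L) (i : ι) : coordK (k := k) R c (r ⊗ₜ l) i = r ⊗ₜ c.repr l i := by
  simp [coordK, Module.Basis.equivFun_apply]

lemma coordK_smul (z : R ⊗[k] K) (y : R ⊗[k] L) :
    coordK (k := k) R c (z • y) = z • coordK (k := k) R c y := by
  induction z using TensorProduct.induction_on with
  | zero => simp
  | add z z' h h' => rw [add_smul, add_smul, map_add, h, h']
  | tmul r a =>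
    induction y using TensorProduct.induction_on with
    | zero => simp
    | add y y' h h' => rw [smul_add, map_add, map_add, smul_add, h, h']
    | tmul r' l =>
      funext i
      rw [smul_tmul_tmul, coordK_tmul, Pi.smul_apply, coordK_tmul, smul_eq_mul,
        Algebra.TensorProduct.tmul_mul_tmul, map_smul, Finsupp.smul_apply, smul_eq_mul]

/-- The basis of `R ⊗ L` over `R ⊗ K` coming from a basis of `L` over `K`. -/
noncomputable def basis : Module.Basis ι (R ⊗[k] K) (R ⊗[k] L) :=
  Module.Basis.ofEquivFun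
    { (coordK (k := k) R c) with map_smul' := coordK_smul R c }

lemma basis_repr_tmul (r : R) (l : L) (i : ι) : (basis (k := k) R c).repr (r ⊗ₜ l) i = r ⊗ₜ c.repr l i :=
  coordK_tmul R c r l i

lemma basis_apply (j : ι) : basis (k := k) R c j = (1 : R) ⊗ₜ[k] c j := by
  refine (basis (k := k) R c).repr.injective (Finsupp.ext fun i ↦ ?_)
  rw [Module.Basis.repr_self, basis_repr_tmul, Module.Basis.repr_self, Finsupp.single_apply,
    Finsupp.single_apply]
  split <;> simp [Algebra.TensorProduct.one_def]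

lemma leftMulMatrix_tmul (r : R) (l : L) :
    Algebra.leftMulMatrix (basis (k := k) R c) (r ⊗ₜ l) =
      Matrix.of fun i j ↦ r ⊗ₜ[k] Algebra.leftMulMatrix c l i j := by
  ext i j
  rw [Algebra.leftMulMatrix_eq_repr_mul, Matrix.of_apply, basis_apply,
    Algebra.TensorProduct.tmul_mul_tmul, mul_one, basis_repr_tmul,
    Algebra.leftMulMatrix_eq_repr_mul]

variable {n : ℕ} (b : Fin n → L)

/-- The matrix over `K[X₁, …, X_n]` of multiplication by `∑ Xᵢ bᵢ`. -/
noncomputable def M : Matrix ι ι (MvPolynomial (Fin n) K) :=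
  ∑ i, (MvPolynomial.X i : MvPolynomial (Fin n) K) • (Algebra.leftMulMatrix c (b i)).map MvPolynomial.C

/-- The relative norm form. -/
noncomputable def G : MvPolynomial (Fin n) K := (M c b).det

/-- Evaluation at a point with coordinates in `R`. -/
noncomputable def evT (x : Fin n → R) : MvPolynomial (Fin n) K →+* R ⊗[k] K :=
  MvPolynomial.eval₂Hom (Algebra.TensorProduct.includeRight : K →ₐ[k] R ⊗[k] K).toRingHom
    fun i ↦ x i ⊗ₜ[k] (1 : K)

/-- Evaluation at a point with coordinates in `k`. -/
noncomputable def evK (P : Fin n → k) : MvPolynomial (Fin n) K →+* K :=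
  MvPolynomial.eval fun i ↦ algebraMap k K (P i)

theorem norm_el (x : Fin n → R) :
    Algebra.norm (R ⊗[k] K) (∑ i, x i ⊗ₜ[k] b i : R ⊗[k] L) = evT R x (G c b) := by
  rw [Algebra.norm_eq_matrix_det (basis (k := k) R c), G, RingHom.map_det, RingHom.mapMatrix_apply,
    map_sum]
  congr 1
  ext i j
  simp [M, evT, leftMulMatrix_tmul, Matrix.sum_apply]

theorem map_M_evK (P : Fin n → k) :
    (M c b).map (evK P) = Algebra.leftMulMatrix c (∑ i, algebraMap k L (P i) * b i) := by
  rw [map_sum]
  ext i j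
  simp [M, evK, Matrix.sum_apply, IsScalarTower.algebraMap_apply k K L, ← Algebra.smul_def,
    -IsScalarTower.algebraMap_smul]
  refine Finset.sum_congr rfl fun x _ ↦ ?_
  rw [← algebraMap_smul K (P x) (b x), map_smul, Matrix.smul_apply, algebraMap_smul]

/-- Transitivity of the norm on `R ⊗ L`. -/
theorem norm_norm (c : Module.Basis ι K L) [FiniteDimensional k K] (z : R ⊗[k] L) :
    Algebra.norm R z = Algebra.norm R (Algebra.norm (R ⊗[k] K) z) := by
  haveI : Module.Free (R ⊗[k] K) (R ⊗[k] L) := Module.Free.of_basis (basis (k := k) R c)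
  haveI : Module.Finite (R ⊗[k] K) (R ⊗[k] L) := Module.Finite.of_basis (basis (k := k) R c)
  exact Algebra.norm_norm.symm

/-- Multiplication by `1 ⊗ y` has the characteristic polynomial of `y`. -/
theorem charpoly_mulLeft (E : Type v) [Field E] [Algebra K E] [FiniteDimensional K L] (y : L) :
    (LinearMap.mulLeft E ((1 : E) ⊗ₜ[K] y)).charpoly =
      (Algebra.leftMulMatrix c y).charpoly.map (algebraMap K E) := by
  rw [← Matrix.charpoly_map, ← LinearMap.charpoly_toMatrix _ (Algebra.TensorProduct.basis E c)]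
  congr 1
  ext i j
  rw [LinearMap.toMatrix_apply, LinearMap.mulLeft_apply, Algebra.TensorProduct.basis_apply,
    Algebra.TensorProduct.tmul_mul_tmul, mul_one, Algebra.TensorProduct.basis_repr_tmul,
    Matrix.map_apply, Algebra.leftMulMatrix_eq_repr_mul]
  simp

end Groth.L11.RelNorm
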