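import Groth.Agent.S19283
import Groth.Agent.L11.NF.DegreeOne
import Mathlib.FieldTheory.Normal.Closure
import Mathlib.RingTheory.TensorProduct.Free

/-!
# Locally split values: one or two linear polynomials
-/

set_option autoImplicit false

open scoped TensorProduct
open NumberField IsDedekindDomain WithZero

namespace Groth.L11.SplitValue

universe u v

variable {k : Type u} [Field k] [NumberField k]

local notation "HOS" => HeightOneSpectrum (RingOfIntegers k)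

/-- The norm commutes with the extension of scalars. -/
lemma norm_one_tmul (R : Type v) [CommRing R] [Algebra k R] {L : Type u} [Field L] [Algebra k L]
    [FiniteDimensional k L] (y : L) :
    Algebra.norm R ((1 : R) ⊗ₜ[k] y) = algebraMap k R (Algebra.norm k y) := by
  let b := Module.finBasis k L
  rw [Algebra.norm_eq_matrix_det b, Algebra.norm_eq_matrix_det (Algebra.TensorProduct.basis R b),
    RingHom.map_det, RingHom.mapMatrix_apply]
  congr 1
  ext i j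
  rw [Matrix.map_apply, Algebra.leftMulMatrix_eq_repr_mul, Algebra.leftMulMatrix_eq_repr_mul,
    Algebra.TensorProduct.basis_apply, Algebra.TensorProduct.tmul_mul_tmul, mul_one,
    Algebra.TensorProduct.basis_repr_tmul]
  simp

lemma isOpen_small (v : HOS) (h : k) (c : v.adicCompletion k) :
    IsOpen {s : v.adicCompletion k | Valued.v ((s * c - 1) * algebraMap k _ h) < 1} :=
  (CodimTwo.isOpen_lt_one v).preimage (((continuous_id.mul continuous_const).sub continuous_const).mul continuous_const)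

/-- A finite place at which both fields have a place of degree one. -/
lemma exists_common_place (L₁ L₂ : Type u) [Field L₁] [NumberField L₁] [Algebra k L₁]
    [Field L₂] [NumberField L₂] [Algebra k L₂] (S : Finset HOS) :
    ∃ v : HOS, v ∉ S ∧ Nonempty (L₁ →ₐ[k] v.adicCompletion k) ∧
      Nonempty (L₂ →ₐ[k] v.adicCompletion k) := by
  haveI : FiniteDimensional k L₁ := Module.Finite.of_restrictScalars_finite ℚ k L₁
  haveI : FiniteDimensional k L₂ := Module.Finite.of_restrictScalars_finite ℚ k L₂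
  let f₁ : L₁ →ₐ[k] AlgebraicClosure k := IsAlgClosed.lift
  let f₂ : L₂ →ₐ[k] AlgebraicClosure k := IsAlgClosed.lift
  let M : IntermediateField k (AlgebraicClosure k) := f₁.fieldRange ⊔ f₂.fieldRange
  haveI : FiniteDimensional k f₁.fieldRange :=
    Module.Finite.equiv (AlgEquiv.ofInjectiveField f₁).toLinearEquiv
  haveI : FiniteDimensional k f₂.fieldRange :=
    Module.Finite.equiv (AlgEquiv.ofInjectiveField f₂).toLinearEquiv
  haveI : FiniteDimensional k M := IntermediateField.finiteDimensional_sup _ _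
  haveI : NumberField M := NumberField.of_module_finite k M
  obtain ⟨v, hv, ⟨j⟩⟩ := DegreeOne.exists_place M S
  exact ⟨v, hv,
    ⟨j.comp ((IntermediateField.inclusion le_sup_left).comp f₁.rangeRestrict)⟩,
    ⟨j.comp ((IntermediateField.inclusion le_sup_right).comp f₂.rangeRestrict)⟩⟩

variable (Sf : Finset (HeightOneSpectrum (RingOfIntegers k))) (Si : Finset (InfinitePlace k))
  (tf : (v : (HeightOneSpectrum (RingOfIntegers k))) → v.adicCompletion k) (ti : (w : InfinitePlace k) → w.Completion)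
  (Uf : (v : (HeightOneSpectrum (RingOfIntegers k))) → Set (v.adicCompletion k)) (Ui : (w : InfinitePlace k) → Set w.Completion)

/-- The case of one linear polynomial. -/
theorem one_linear (a b : k) (hb : b ≠ 0) (hbS : ∀ v : HOS, v ∉ Sf → v.valuation k b = 1)
    (L : Type u) [Field L] [NumberField L] [Algebra k L]
    (htf : ∀ v ∈ Sf, algebraMap k (v.adicCompletion k) b * (tf v - algebraMap k (v.adicCompletion k) a) ≠ 0 ∧
      ∃ x : v.adicCompletion k ⊗[k] L, Algebra.norm (v.adicCompletion k) x =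
        algebraMap k (v.adicCompletion k) b * (tf v - algebraMap k (v.adicCompletion k) a))
    (hti : ∀ w ∈ Si, algebraMap k w.Completion b * (ti w - algebraMap k w.Completion a) ≠ 0 ∧
      ∃ x : w.Completion ⊗[k] L, Algebra.norm w.Completion x =
        algebraMap k w.Completion b * (ti w - algebraMap k w.Completion a))
    (hUf : ∀ v ∈ Sf, IsOpen (Uf v) ∧ tf v ∈ Uf v) (hUi : ∀ w ∈ Si, IsOpen (Ui w) ∧ ti w ∈ Ui w) :
    ∃ t₀ : k, (∀ v ∈ Sf, algebraMap k (v.adicCompletion k) t₀ ∈ Uf v) ∧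
      (∀ w ∈ Si, algebraMap k w.Completion t₀ ∈ Ui w) ∧
      ∀ v : HOS, v ∉ Sf → v.valuation k (t₀ - a) < 1 → Nonempty (L →ₐ[k] v.adicCompletion k) := by
  obtain ⟨v₀, hv₀, hL⟩ := DegreeOne.exists_place L Sf
  obtain ⟨s, -, hsf, hsi, -, hs⟩ := Groth.Agent.S19283.result k L Sf Si
    (fun v ↦ algebraMap k _ b * (tf v - algebraMap k _ a))
    (fun w ↦ algebraMap k _ b * (ti w - algebraMap k _ a)) htf hti
    (fun v ↦ (fun z ↦ algebraMap k _ a + z * algebraMap k _ b⁻¹) ⁻¹' Uf v)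
    (fun v hv ↦ ⟨(hUf v hv).1.preimage (by fun_prop), by
      show algebraMap k _ a + _ ∈ Uf v
      rw [mul_right_comm, ← map_mul, mul_inv_cancel₀ hb, map_one, one_mul, add_sub_cancel]
      exact (hUf v hv).2⟩)
    (fun w ↦ (fun z ↦ algebraMap k _ a + z * algebraMap k _ b⁻¹) ⁻¹' Ui w)
    (fun w hw ↦ ⟨(hUi w hw).1.preimage (by fun_prop), by
      show algebraMap k _ a + _ ∈ Ui w
      rw [mul_right_comm, ← map_mul, mul_inv_cancel₀ hb, map_one, one_mul, add_sub_cancel]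
      exact (hUi w hw).2⟩)
    v₀ hv₀ hL
  refine ⟨a + s * b⁻¹, fun v hv ↦ by simpa using hsf v hv,
    fun w hw ↦ by rw [map_add, map_mul]; exact hsi w hw,
    fun v hv hlt ↦ ?_⟩
  rcases hs v hv with h | h
  · rw [add_sub_cancel_left, map_mul, h, map_inv₀, hbS v hv] at hlt
    simp at hlt
  · exact h

lemma exists_near {K : Type v} [Field K] [TopologicalSpace K] [IsTopologicalDivisionRing K]
    [Algebra k K] {a₁ a₂ b₁ b₂ : k} (ha : a₁ ≠ a₂) (hb₁ : b₁ ≠ 0) (hb₂ : b₂ ≠ 0) (t : K)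
    [T1Space K] {U : Set K} (hU : IsOpen U) (ht : t ∈ U) :
    ∃ O₁ O₂ : Set K, IsOpen O₁ ∧ algebraMap k K b₁ * (t - algebraMap k K a₁) ∈ O₁ ∧ IsOpen O₂ ∧
      algebraMap k K b₂ * (t - algebraMap k K a₂) ∈ O₂ ∧ ∀ s₁ s₂ : k, algebraMap k K s₁ ∈ O₁ →
        algebraMap k K s₂ ∈ O₂ → s₂ / b₂ - s₁ / b₁ ≠ 0 ∧
          algebraMap k K ((a₁ * (s₂ / b₂) - a₂ * (s₁ / b₁)) / (s₂ / b₂ - s₁ / b₁)) ∈ U := by
  let D : K × K → K := fun z ↦ z.2 / algebraMap k K b₂ - z.1 / algebraMap k K b₁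
  let g : K × K → K := fun z ↦ (algebraMap k K a₁ * (z.2 / algebraMap k K b₂) -
    algebraMap k K a₂ * (z.1 / algebraMap k K b₁)) / D z
  have hD : Continuous D := by simp only [D]; fun_prop
  have hopen : IsOpen ({z | D z ≠ 0} ∩ g ⁻¹' U) := by
    refine ContinuousOn.isOpen_inter_preimage ?_ (isOpen_ne.preimage hD) hU
    exact ContinuousOn.div (Continuous.continuousOn (by fun_prop)) hD.continuousOn fun z hz ↦ hz
  have hc : algebraMap k K a₁ - algebraMap k K a₂ ≠ 0 := by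
    rw [sub_ne_zero]; exact (algebraMap k K).injective.ne ha
  have hdiv : ∀ b : k, b ≠ 0 → ∀ z : K, algebraMap k K b * z / algebraMap k K b = z := fun b hb z ↦
    mul_div_cancel_left₀ _ ((map_ne_zero _).mpr hb)
  obtain ⟨O₁, O₂, h1, h2, h3, h4, h5⟩ := isOpen_prod_iff.mp hopen
    (algebraMap k K b₁ * (t - algebraMap k K a₁)) (algebraMap k K b₂ * (t - algebraMap k K a₂))
    (by
      have hD0 : D (algebraMap k K b₁ * (t - algebraMap k K a₁),
          algebraMap k K b₂ * (t - algebraMap k K a₂)) = algebraMap k K a₁ - algebraMap k K a₂ := by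
        simp only [D, hdiv _ hb₁, hdiv _ hb₂]; ring
      refine ⟨hD0.trans_ne hc, ?_⟩
      show g _ ∈ U
      simp only [g, hD0, hdiv _ hb₁, hdiv _ hb₂]
      rwa [show algebraMap k K a₁ * (t - algebraMap k K a₂) - algebraMap k K a₂ * (t - algebraMap k K a₁)
        = t * (algebraMap k K a₁ - algebraMap k K a₂) by ring, mul_div_cancel_right₀ _ hc])
  refine ⟨O₁, O₂, h1, h3, h2, h4, fun s₁ s₂ hs₁ hs₂ ↦ ?_⟩
  obtain ⟨hne, hmem⟩ := h5 (Set.mk_mem_prod hs₁ hs₂)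
  refine ⟨fun h ↦ hne ?_, ?_⟩
  · show algebraMap k K s₂ / _ - algebraMap k K s₁ / _ = 0
    rw [← map_div₀, ← map_div₀, ← map_sub, h, map_zero]
  · simpa [g, D] using hmem

/-- The case of two linear polynomials. -/
theorem two_linear (a₁ a₂ b₁ b₂ : k) (ha : a₁ ≠ a₂) (hb₁ : b₁ ≠ 0) (hb₂ : b₂ ≠ 0)
    (hb₁S : ∀ v : HOS, v ∉ Sf → v.valuation k b₁ = 1) (hb₂S : ∀ v : HOS, v ∉ Sf → v.valuation k b₂ = 1)
    (L₁ L₂ : Type u) [Field L₁] [NumberField L₁] [Algebra k L₁] [Field L₂] [NumberField L₂] [Algebra k L₂]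
    (hN₁ : ∀ v : HOS, v ∉ Sf → ∀ m : ℕ, ∃ y : L₁, y ≠ 0 ∧
      v.valuation k (Algebra.norm k y / b₁ - 1) ≤ exp (-(m : ℤ)))
    (hN₂ : ∀ v : HOS, v ∉ Sf → ∀ m : ℕ, ∃ y : L₂, y ≠ 0 ∧
      v.valuation k (Algebra.norm k y / b₂ - 1) ≤ exp (-(m : ℤ)))
    (htf₁ : ∀ v ∈ Sf, algebraMap k (v.adicCompletion k) b₁ * (tf v - algebraMap k (v.adicCompletion k) a₁) ≠ 0 ∧
      ∃ x : v.adicCompletion k ⊗[k] L₁, Algebra.norm (v.adicCompletion k) x =
        algebraMap k (v.adicCompletion k) b₁ * (tf v - algebraMap k (v.adicCompletion k) a₁))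
    (htf₂ : ∀ v ∈ Sf, algebraMap k (v.adicCompletion k) b₂ * (tf v - algebraMap k (v.adicCompletion k) a₂) ≠ 0 ∧
      ∃ x : v.adicCompletion k ⊗[k] L₂, Algebra.norm (v.adicCompletion k) x =
        algebraMap k (v.adicCompletion k) b₂ * (tf v - algebraMap k (v.adicCompletion k) a₂))
    (hti₁ : ∀ w ∈ Si, algebraMap k w.Completion b₁ * (ti w - algebraMap k w.Completion a₁) ≠ 0 ∧
      ∃ x : w.Completion ⊗[k] L₁, Algebra.norm w.Completion x =
        algebraMap k w.Completion b₁ * (ti w - algebraMap k w.Completion a₁))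
    (hti₂ : ∀ w ∈ Si, algebraMap k w.Completion b₂ * (ti w - algebraMap k w.Completion a₂) ≠ 0 ∧
      ∃ x : w.Completion ⊗[k] L₂, Algebra.norm w.Completion x =
        algebraMap k w.Completion b₂ * (ti w - algebraMap k w.Completion a₂))
    (hUf : ∀ v ∈ Sf, IsOpen (Uf v) ∧ tf v ∈ Uf v) (hUi : ∀ w ∈ Si, IsOpen (Ui w) ∧ ti w ∈ Ui w) :
    ∃ t₀ : k, (∀ v ∈ Sf, algebraMap k (v.adicCompletion k) t₀ ∈ Uf v) ∧
      (∀ w ∈ Si, algebraMap k w.Completion t₀ ∈ Ui w) ∧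
      ∀ v : HOS, v ∉ Sf →
        (v.valuation k (t₀ - a₁) < 1 → Nonempty (L₁ →ₐ[k] v.adicCompletion k)) ∧
        (v.valuation k (t₀ - a₂) < 1 → Nonempty (L₂ →ₐ[k] v.adicCompletion k)) := by
  classical
  haveI : FiniteDimensional k L₁ := Module.Finite.of_restrictScalars_finite ℚ k L₁
  haveI : FiniteDimensional k L₂ := Module.Finite.of_restrictScalars_finite ℚ k L₂
  set c : k := a₁ - a₂ with hc
  have hc0 : c ≠ 0 := sub_ne_zero.mpr ha
  let T : Finset HOS :=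
    ((HeightOneSpectrum.Support.finite (RingOfIntegers k) c).union
      (HeightOneSpectrum.Support.finite (RingOfIntegers k) c⁻¹)).toFinset \ Sf
  have hT : ∀ v : HOS, v ∉ Sf → v ∉ T → v.valuation k c = 1 := fun v hv hvT ↦ by
    simp only [T, Finset.mem_sdiff, Set.Finite.mem_toFinset, not_and, not_not] at hvT
    by_contra h
    refine hv (hvT ?_)
    rcases lt_or_gt_of_ne h with h | h
    · exact Or.inr (show 1 < v.valuation k c⁻¹ by
        rw [map_inv₀]; exact (one_lt_inv₀ ((Valuation.pos_iff _).mpr hc0)).mpr h)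
    · exact Or.inl h
  -- targets at `T`
  have hsmall : ∀ v : HOS, ∃ (h : k) (y₁ : L₁) (y₂ : L₂), v ∈ T →
      h ≠ 0 ∧ (v.valuation k h)⁻¹ ≤ v.valuation k c ∧ 1 ≤ v.valuation k h ∧ y₁ ≠ 0 ∧ y₂ ≠ 0 ∧
      v.valuation k ((Algebra.norm k y₁ / b₁ - 1) * h) < 1 ∧
      v.valuation k ((Algebra.norm k y₂ / b₂ - 1) * h) < 1 := fun v ↦ by
    by_cases hv : v ∈ T
    · have hvS : v ∉ Sf := (Finset.mem_sdiff.mp hv).2
      have hvc : v.valuation k c ≠ 0 := (Valuation.ne_zero_iff _).mpr hc0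
      set m : ℕ := (log (v.valuation k c)).natAbs with hm
      obtain ⟨h, hh⟩ := v.valuation_surjective k (exp (m : ℤ))
      obtain ⟨y₁, hy₁, hy₁'⟩ := hN₁ v hvS (m + 1)
      obtain ⟨y₂, hy₂, hy₂'⟩ := hN₂ v hvS (m + 1)
      refine ⟨h, y₁, y₂, fun _ ↦ ⟨fun h0 ↦ exp_ne_zero (hh.symm.trans (by rw [h0, map_zero])), ?_, ?_, hy₁, hy₂, ?_, ?_⟩⟩
      · rw [hh, ← exp_neg]
        refine le_trans (exp_le_exp.mpr ?_) (exp_log hvc).le
        omega
      · rw [hh, ← exp_zero, exp_le_exp]; omega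
      · rw [map_mul, hh]
        refine (mul_le_mul' hy₁' le_rfl).trans_lt ?_
        rw [← exp_add, ← exp_zero, exp_lt_exp]; push_cast; omega
      · rw [map_mul, hh]
        refine (mul_le_mul' hy₂' le_rfl).trans_lt ?_
        rw [← exp_add, ← exp_zero, exp_lt_exp]; push_cast; omega
    · exact ⟨0, 0, 0, fun h ↦ absurd h hv⟩
  choose hsc yf₁ yf₂ hyf using hsmall
  -- an infinite place at which the two norms are kept apart
  obtain ⟨w₀⟩ : Nonempty (InfinitePlace k) := inferInstance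
  obtain ⟨r, hr0, hrne⟩ : ∃ r : k, r ≠ 0 ∧ Algebra.norm k (algebraMap k L₂ r) / b₂ ≠ 1 / b₁ := by
    by_contra hcon
    push Not at hcon
    have h1 := hcon 1 one_ne_zero
    have h2 := hcon 2 two_ne_zero
    rw [Algebra.norm_algebraMap] at h1 h2
    rw [← h1] at h2
    have h3 : ((2 : ℕ) ^ Module.finrank k L₂ : k) = ((1 : ℕ) : k) := by
      rw [div_left_inj' hb₂, one_pow] at h2
      simpa using h2
    have h4 : 2 ^ Module.finrank k L₂ = 1 := by exact_mod_cast h3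
    exact absurd h4 (Nat.one_lt_two_pow (Module.finrank_pos (R := k) (M := L₂)).ne').ne'
  -- neighbourhoods
  have hnearf : ∀ v : HOS, ∃ O₁ O₂ : Set (v.adicCompletion k), v ∈ Sf →
      IsOpen O₁ ∧ algebraMap k _ b₁ * (tf v - algebraMap k _ a₁) ∈ O₁ ∧ IsOpen O₂ ∧
      algebraMap k _ b₂ * (tf v - algebraMap k _ a₂) ∈ O₂ ∧ ∀ s₁ s₂ : k, algebraMap k _ s₁ ∈ O₁ →
        algebraMap k _ s₂ ∈ O₂ → s₂ / b₂ - s₁ / b₁ ≠ 0 ∧ algebraMap k (v.adicCompletion k)
          ((a₁ * (s₂ / b₂) - a₂ * (s₁ / b₁)) / (s₂ / b₂ - s₁ / b₁)) ∈ Uf v := fun v ↦ by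
    by_cases hv : v ∈ Sf
    · obtain ⟨O₁, O₂, h⟩ := exists_near ha hb₁ hb₂ (tf v) (hUf v hv).1 (hUf v hv).2
      exact ⟨O₁, O₂, fun _ ↦ h⟩
    · exact ⟨∅, ∅, fun h ↦ absurd h hv⟩
  choose Of₁ Of₂ hOf using hnearf
  have hneari : ∀ w : InfinitePlace k, ∃ (O₁ O₂ : Set w.Completion) (z₁ z₂ : w.Completion),
      w ∈ insert w₀ Si → IsOpen O₁ ∧ z₁ ∈ O₁ ∧ IsOpen O₂ ∧ z₂ ∈ O₂ ∧
        (z₁ ≠ 0 ∧ ∃ x : w.Completion ⊗[k] L₁, Algebra.norm w.Completion x = z₁) ∧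
        (z₂ ≠ 0 ∧ ∃ x : w.Completion ⊗[k] L₂, Algebra.norm w.Completion x = z₂) ∧
        ∀ s₁ s₂ : k, algebraMap k _ s₁ ∈ O₁ → algebraMap k _ s₂ ∈ O₂ → s₂ / b₂ - s₁ / b₁ ≠ 0 ∧
          (w ∈ Si → algebraMap k w.Completion
            ((a₁ * (s₂ / b₂) - a₂ * (s₁ / b₁)) / (s₂ / b₂ - s₁ / b₁)) ∈ Ui w) := fun w ↦ by
    by_cases hw : w ∈ Si
    · obtain ⟨O₁, O₂, h1, h2, h3, h4, h5⟩ := exists_near ha hb₁ hb₂ (ti w) (hUi w hw).1 (hUi w hw).2
      exact ⟨O₁, O₂, _, _, fun _ ↦ ⟨h1, h2, h3, h4, hti₁ w hw, hti₂ w hw,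
        fun s₁ s₂ g₁ g₂ ↦ ⟨(h5 s₁ s₂ g₁ g₂).1, fun _ ↦ (h5 s₁ s₂ g₁ g₂).2⟩⟩⟩
    · let s := Algebra.norm k (algebraMap k L₂ r)
      have hopen : IsOpen {z : w.Completion × w.Completion |
          z.2 / algebraMap k _ b₂ - z.1 / algebraMap k _ b₁ ≠ 0} :=
        isOpen_ne.preimage (by fun_prop)
      obtain ⟨O₁, O₂, h1, h2, h3, h4, h5⟩ := isOpen_prod_iff.mp hopen
        (algebraMap k _ (1 : k)) (algebraMap k _ s) (by
          simp only [Set.mem_ofPred_eq, ← map_div₀, ← map_sub]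
          exact (map_ne_zero _).mpr (sub_ne_zero.mpr hrne))
      refine ⟨O₁, O₂, algebraMap k _ (1 : k), algebraMap k _ s, fun _ ↦ ⟨h1, h3, h2, h4,
        ⟨(map_ne_zero _).mpr one_ne_zero, 1, by rw [map_one, map_one]⟩, ⟨?_, 1 ⊗ₜ algebraMap k L₂ r, norm_one_tmul _ _⟩,
        fun s₁ s₂ g₁ g₂ ↦ ⟨fun h ↦ h5 (Set.mk_mem_prod g₁ g₂) ?_, fun h ↦ absurd h hw⟩⟩⟩
      · exact (map_ne_zero _).mpr (by simp only [s, Algebra.norm_algebraMap]; exact pow_ne_zero _ hr0)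
      · simp only [Prod.fst, Prod.snd, ← map_div₀, ← map_sub, h, map_zero]
  choose Oi₁ Oi₂ zi₁ zi₂ hOi using hneari
  obtain ⟨v₀, hv₀, hL₁, hL₂⟩ := exists_common_place L₁ L₂ (Sf ∪ T)
  have hTS : ∀ v ∈ T, v ∉ Sf := fun v hv ↦ (Finset.mem_sdiff.mp hv).2
  -- the two values
  let tg₁ : (v : HOS) → v.adicCompletion k := fun v ↦
    if v ∈ Sf then algebraMap k _ b₁ * (tf v - algebraMap k _ a₁) else algebraMap k _ (Algebra.norm k (yf₁ v))
  let tg₂ : (v : HOS) → v.adicCompletion k := fun v ↦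
    if v ∈ Sf then algebraMap k _ b₂ * (tf v - algebraMap k _ a₂) else algebraMap k _ (Algebra.norm k (yf₂ v))
  let N₁ : (v : HOS) → Set (v.adicCompletion k) := fun v ↦ if v ∈ Sf then Of₁ v else
    {s | Valued.v ((s * algebraMap k _ b₁⁻¹ - 1) * algebraMap k _ (hsc v)) < 1}
  let N₂ : (v : HOS) → Set (v.adicCompletion k) := fun v ↦ if v ∈ Sf then Of₂ v else
    {s | Valued.v ((s * algebraMap k _ b₂⁻¹ - 1) * algebraMap k _ (hsc v)) < 1}
  obtain ⟨s₁, -, hf₁, hi₁, hint₁, hgood₁⟩ := Groth.Agent.S19283.result k L₁ (Sf ∪ T) (insert w₀ Si)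
    tg₁ zi₁ (fun v hv ↦ by
      by_cases h : v ∈ Sf
      · simpa [tg₁, h] using htf₁ v h
      · have hvT := (Finset.mem_union.mp hv).resolve_left h
        simp only [tg₁, if_neg h]
        exact ⟨(map_ne_zero _).mpr (Algebra.norm_ne_zero_iff.mpr (hyf v hvT).2.2.2.1),
          1 ⊗ₜ yf₁ v, norm_one_tmul _ _⟩)
    (fun w hw ↦ (hOi w hw).2.2.2.2.1) N₁ (fun v hv ↦ by
      by_cases h : v ∈ Sf
      · simp only [N₁, tg₁, if_pos h]; exact ⟨(hOf v h).1, (hOf v h).2.1⟩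
      · have hvT := (Finset.mem_union.mp hv).resolve_left h
        simp only [N₁, tg₁, if_neg h]
        refine ⟨isOpen_small v _ _, ?_⟩
        rw [Set.mem_ofPred_eq, ← map_mul, ← map_one (algebraMap k (v.adicCompletion k)), ← map_sub,
          ← map_mul, CodimTwo.valued_algebraMap, ← div_eq_mul_inv]
        exact (hyf v hvT).2.2.2.2.2.1)
    Oi₁ (fun w hw ↦ ⟨(hOi w hw).1, (hOi w hw).2.1⟩) v₀ hv₀ hL₁
  obtain ⟨s₂, -, hf₂, hi₂, hint₂, hgood₂⟩ := Groth.Agent.S19283.result k L₂ (Sf ∪ T) (insert w₀ Si)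
    tg₂ zi₂ (fun v hv ↦ by
      by_cases h : v ∈ Sf
      · simpa [tg₂, h] using htf₂ v h
      · have hvT := (Finset.mem_union.mp hv).resolve_left h
        simp only [tg₂, if_neg h]
        exact ⟨(map_ne_zero _).mpr (Algebra.norm_ne_zero_iff.mpr (hyf v hvT).2.2.2.2.1),
          1 ⊗ₜ yf₂ v, norm_one_tmul _ _⟩)
    (fun w hw ↦ (hOi w hw).2.2.2.2.2.1) N₂ (fun v hv ↦ by
      by_cases h : v ∈ Sf
      · simp only [N₂, tg₂, if_pos h]; exact ⟨(hOf v h).2.2.1, (hOf v h).2.2.2.1⟩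
      · have hvT := (Finset.mem_union.mp hv).resolve_left h
        simp only [N₂, tg₂, if_neg h]
        refine ⟨isOpen_small v _ _, ?_⟩
        rw [Set.mem_ofPred_eq, ← map_mul, ← map_one (algebraMap k (v.adicCompletion k)), ← map_sub,
          ← map_mul, CodimTwo.valued_algebraMap, ← div_eq_mul_inv]
        exact (hyf v hvT).2.2.2.2.2.2)
    Oi₂ (fun w hw ↦ ⟨(hOi w hw).2.2.1, (hOi w hw).2.2.2.1⟩) v₀ hv₀ hL₂
  set u₁ := s₁ / b₁ with hu₁
  set u₂ := s₂ / b₂ with hu₂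
  have hwit := (hOi w₀ (Finset.mem_insert_self _ _)).2.2.2.2.2.2 s₁ s₂
    (hi₁ w₀ (Finset.mem_insert_self _ _)) (hi₂ w₀ (Finset.mem_insert_self _ _))
  have hD : u₂ - u₁ ≠ 0 := hwit.1
  set t₀ := (a₁ * u₂ - a₂ * u₁) / (u₂ - u₁) with ht₀
  have e₁ : t₀ - a₁ = c * u₁ / (u₂ - u₁) := by rw [ht₀, hc]; field_simp; ring
  have e₂ : t₀ - a₂ = c * u₂ / (u₂ - u₁) := by rw [ht₀, hc]; field_simp; ring
  refine ⟨t₀, fun v hv ↦ ?_, fun w hw ↦ ?_, fun v hv ↦ ?_⟩
  · have g₁ := hf₁ v (Finset.mem_union_left _ hv)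
    have g₂ := hf₂ v (Finset.mem_union_left _ hv)
    simp only [N₁, if_pos hv] at g₁
    simp only [N₂, if_pos hv] at g₂
    exact ((hOf v hv).2.2.2.2 s₁ s₂ g₁ g₂).2
  · exact ((hOi w (Finset.mem_insert_of_mem hw)).2.2.2.2.2.2 s₁ s₂
      (hi₁ w (Finset.mem_insert_of_mem hw)) (hi₂ w (Finset.mem_insert_of_mem hw))).2 hw
  have hge : ∀ u : k, v.valuation k u = 1 → v.valuation k (u₂ - u₁) ≤ v.valuation k c →
      1 ≤ v.valuation k (c * u / (u₂ - u₁)) := fun u hu hle ↦ by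
    rw [map_div₀, map_mul, hu, mul_one]
    exact (one_le_div₀ ((Valuation.pos_iff _).mpr hD)).mpr hle
  by_cases hvT : v ∈ T
  · obtain ⟨hh0, hhc, hh1, -⟩ := hyf v hvT
    have g₁ := hf₁ v (Finset.mem_union_right _ hvT)
    have g₂ := hf₂ v (Finset.mem_union_right _ hvT)
    simp only [N₁, if_neg hv, Set.mem_ofPred_eq, ← map_mul, ← map_one (algebraMap k (v.adicCompletion k)),
      ← map_sub, CodimTwo.valued_algebraMap, ← div_eq_mul_inv, ← hu₁] at g₁
    simp only [N₂, if_neg hv, Set.mem_ofPred_eq, ← map_mul, ← map_one (algebraMap k (v.adicCompletion k)),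
      ← map_sub, CodimTwo.valued_algebraMap, ← div_eq_mul_inv, ← hu₂] at g₂
    rw [map_mul] at g₁ g₂
    have hpos : 0 < v.valuation k (hsc v) := (Valuation.pos_iff _).mpr hh0
    have k₁ : v.valuation k (u₁ - 1) < (v.valuation k (hsc v))⁻¹ := by
      rwa [inv_eq_one_div, lt_div_iff₀ hpos]
    have k₂ : v.valuation k (u₂ - 1) < (v.valuation k (hsc v))⁻¹ := by
      rwa [inv_eq_one_div, lt_div_iff₀ hpos]
    have hone : ∀ u : k, v.valuation k (u - 1) < (v.valuation k (hsc v))⁻¹ → v.valuation k u = 1 :=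
      fun u hu ↦ (Valuation.map_eq_of_sub_lt _ (by
        rw [map_one]; exact hu.trans_le (inv_le_one_of_one_le₀ hh1))).trans (map_one _)
    have hle : v.valuation k (u₂ - u₁) ≤ v.valuation k c := by
      rw [show u₂ - u₁ = (u₂ - 1) - (u₁ - 1) by ring]
      exact (Valuation.map_sub _ _ _).trans (max_le (k₂.le.trans hhc) (k₁.le.trans hhc))
    exact ⟨fun h ↦ absurd h (not_lt.mpr (e₁ ▸ hge u₁ (hone _ k₁) hle)),
      fun h ↦ absurd h (not_lt.mpr (e₂ ▸ hge u₂ (hone _ k₂) hle))⟩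
  by_cases hv0 : v = v₀
  · subst hv0
    exact ⟨fun _ ↦ hL₁, fun _ ↦ hL₂⟩
  have hvU : v ∉ Sf ∪ T := by simp [hv, hvT]
  have hle : v.valuation k (u₂ - u₁) ≤ v.valuation k c := by
    rw [hT v hv hvT]
    refine (Valuation.map_sub _ _ _).trans (max_le ?_ ?_)
    · rw [hu₂, map_div₀, hb₂S v hv, div_one]; exact hint₂ v hvU hv0
    · rw [hu₁, map_div₀, hb₁S v hv, div_one]; exact hint₁ v hvU hv0
  refine ⟨fun h ↦ (hgood₁ v hvU).resolve_left fun h1 ↦ absurd h (not_lt.mpr (e₁ ▸ hge u₁ ?_ hle)),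
    fun h ↦ (hgood₂ v hvU).resolve_left fun h1 ↦ absurd h (not_lt.mpr (e₂ ▸ hge u₂ ?_ hle))⟩
  · rw [hu₁, map_div₀, hb₁S v hv, div_one, h1]
  · rw [hu₂, map_div₀, hb₂S v hv, div_one, h1]

end Groth.L11.SplitValue
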