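import Groth.Agent.S19976
import Groth.Agent.L11.NF.DegreeOne
import Groth.Agent.L11.NF.Places
import Groth.Agent.L11.NF.RelNormForm
import Groth.Agent.L11.NF.NormApprox
import Mathlib.FieldTheory.Normal.Closure
import Mathlib.Algebra.MvPolynomial.Funext

/-!
# Locally split values: one quadratic polynomial
-/

set_option autoImplicit false

open scoped TensorProduct
open NumberField IsDedekindDomain WithZero

namespace Groth.L11.SplitQuad

universe u v

attribute [local instance] Groth.L11.RelNorm.towerAlg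

variable {k K : Type u} [Field k] [NumberField k] [Field K] [NumberField K] [Algebra k K]

/-- An element of `k` dominating given elements of `K` at all places above `v`. -/
lemma exists_dom (v : HeightOneSpectrum (RingOfIntegers k)) (C : Finset K) :
    ∃ g : k, g ≠ 0 ∧ 1 ≤ v.valuation k g ∧ ∀ W : HeightOneSpectrum (RingOfIntegers K),
      W.asIdeal.LiesOver v.asIdeal → ∀ x ∈ C, W.valuation K x ≤ W.valuation K (algebraMap k K g) := by
  classical
  set N : ℕ := (Places.above (K := K) v).sup fun W ↦ C.sup fun x ↦ (log (W.valuation K x)).natAbs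
  obtain ⟨g, hg⟩ := v.valuation_surjective k (exp (N : ℤ))
  refine ⟨g, fun h ↦ exp_ne_zero (hg.symm.trans (by rw [h, map_zero])),
    by rw [hg, ← exp_zero, exp_le_exp]; omega, fun W hW x hx ↦ ?_⟩
  by_cases hx0 : W.valuation K x = 0
  · rw [hx0]; exact zero_le'
  have h1 : (log (W.valuation K x)).natAbs ≤ N :=
    le_trans (Finset.le_sup (f := fun x ↦ (log (W.valuation K x)).natAbs) hx)
      (Finset.le_sup (f := fun W ↦ C.sup fun x ↦ (log (W.valuation K x)).natAbs)
        ((Places.mem_above v W).mpr hW))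
  rw [Places.val_algebraMap v, hg]
  refine le_trans (le_trans (exp_log hx0).ge (exp_le_exp.mpr (show log (W.valuation K x) ≤ (N : ℤ) by omega))) ?_
  exact le_self_pow (by rw [← exp_zero, exp_le_exp]; omega)
    (Ideal.IsDedekindDomain.ramificationIdx'_ne_zero_of_liesOver W.asIdeal v.ne_bot)

lemma exists_tiny (v : HeightOneSpectrum (RingOfIntegers k)) (C : Finset k) :
    ∃ h : k, h ≠ 0 ∧ v.valuation k h < 1 ∧ ∀ x ∈ C, v.valuation k (h * x) < 1 := by
  classical
  set N : ℕ := (C.sup fun x ↦ (log (v.valuation k x)).natAbs) + 1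
  obtain ⟨h, hh⟩ := v.valuation_surjective k (exp (-(N : ℤ)))
  refine ⟨h, fun h0 ↦ exp_ne_zero (hh.symm.trans (by rw [h0, map_zero])),
    by rw [hh, ← exp_zero, exp_lt_exp]; omega, fun x hx ↦ ?_⟩
  rw [map_mul, hh]
  by_cases hx0 : v.valuation k x = 0
  · rw [hx0, mul_zero]; exact zero_lt_one
  have h1 : (log (v.valuation k x)).natAbs + 1 ≤ N :=
    Nat.succ_le_succ (Finset.le_sup (f := fun x ↦ (log (v.valuation k x)).natAbs) hx)
  calc exp (-(N : ℤ)) * v.valuation k x = exp (-(N : ℤ)) * exp (log (v.valuation k x)) := by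
        rw [exp_log hx0]
    _ < 1 := by rw [← exp_add, ← exp_zero, exp_lt_exp]; omega

/-- A polynomial with `W`-integral coefficients takes a `W`-integral value at a `v`-integral point. -/
lemma val_evK_le_one {n : ℕ} (W : HeightOneSpectrum (RingOfIntegers K)) (F : MvPolynomial (Fin n) K)
    (hF : ∀ d ∈ F.support, W.valuation K (F.coeff d) ≤ 1) (P : Fin n → k)
    (hP : ∀ i, W.valuation K (algebraMap k K (P i)) ≤ 1) :
    W.valuation K (RelNorm.evK P F) ≤ 1 := by
  show W.valuation K (MvPolynomial.eval _ F) ≤ 1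
  rw [MvPolynomial.eval_eq]
  refine Valuation.map_sum_le _ fun d hd ↦ ?_
  rw [map_mul, map_prod]
  exact mul_le_one' (hF d hd) (Finset.prod_le_one' fun i _ ↦ by
    rw [map_pow]; exact pow_le_one' (hP i) _)

/-- A value of the relative norm close to `b`, with the accompanying bound. -/
lemma exists_target (L : Type u) [Field L] [NumberField L] [Algebra K L] (h2 : Module.finrank k K = 2)
    (a : K) (ha : a ∉ (algebraMap k K).range) (b : K) (v : HeightOneSpectrum (RingOfIntegers k))
    (hbv : ∀ W : HeightOneSpectrum (RingOfIntegers K), W.asIdeal.LiesOver v.asIdeal → W.valuation K b = 1)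
    (hram : ∀ W : HeightOneSpectrum (RingOfIntegers K), W.asIdeal.LiesOver v.asIdeal →
      ∀ Q : Ideal (RingOfIntegers L), Q.IsPrime → Q.LiesOver W.asIdeal →
        Q.ramificationIdx (RingOfIntegers K) = 1) :
    ∃ (g : k) (y : L), y ≠ 0 ∧ 1 ≤ v.valuation k g ∧
      (∀ W : HeightOneSpectrum (RingOfIntegers K), W.asIdeal.LiesOver v.asIdeal →
        W.valuation K a ≤ W.valuation K (algebraMap k K g)) ∧
      ∀ p q : k, b⁻¹ * Algebra.norm K y = algebraMap k K p - algebraMap k K q * a →
        v.valuation k (q * g) < 1 ∧ v.valuation k (p - 1) < 1 := by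
  classical
  haveI : FiniteDimensional k K := Module.Finite.of_restrictScalars_finite ℚ k K
  have hli : LinearIndependent k ![(1 : K), a] :=
    (LinearIndependent.pair_iff' one_ne_zero).mpr fun c hc ↦
      ha ⟨c, (Algebra.algebraMap_eq_smul_one c).trans hc⟩
  let e : Module.Basis (Fin 2) k K :=
    basisOfLinearIndependentOfCardEqFinrank hli (by rw [Fintype.card_fin, h2])
  have he : ∀ i, e i = ![(1 : K), a] i := fun i ↦ by rw [coe_basisOfLinearIndependentOfCardEqFinrank]
  have hdec : ∀ z : K, z = algebraMap k K (e.repr z 0) - algebraMap k K (-(e.repr z 1)) * a := fun z ↦ by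
    conv_lhs => rw [← e.sum_repr z]
    rw [Fin.sum_univ_two, he, he, map_neg]
    simp [Algebra.smul_def]
  set S := Algebra.trace k K a with hS
  set η : K := algebraMap k K S - 2 * a with hη
  set D : k := -Algebra.trace k K (η * a) with hD
  have htr1 : Algebra.trace k K (1 : K) = 2 := by
    rw [← map_one (algebraMap k K), Algebra.trace_algebraMap, h2, nsmul_eq_mul, mul_one]; norm_num
  have htrc : ∀ (r : k) (z : K), Algebra.trace k K (algebraMap k K r * z) = r * Algebra.trace k K z :=
    fun r z ↦ by rw [← Algebra.smul_def, map_smul, smul_eq_mul]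
  have hη1 : Algebra.trace k K η = 0 := by
    rw [hη, map_sub, Algebra.trace_algebraMap, h2, nsmul_eq_mul,
      show (2 : K) = algebraMap k K 2 by rw [map_ofNat], htrc, ← hS]
    norm_num
  have htrz : ∀ p q : k, Algebra.trace k K (η * (algebraMap k K p - algebraMap k K q * a)) = q * D ∧
      Algebra.trace k K (algebraMap k K p - algebraMap k K q * a) = 2 * p - q * S := fun p q ↦ by
    constructor
    · rw [show η * (algebraMap k K p - algebraMap k K q * a) =
        algebraMap k K p * η - algebraMap k K q * (η * a) by ring, map_sub, htrc, htrc, hη1, hD]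
      ring
    · rw [map_sub, Algebra.trace_algebraMap, h2, nsmul_eq_mul, htrc, ← hS]; norm_num
  have hD0 : D ≠ 0 := by
    intro h0
    have hz : ∀ z : K, Algebra.trace k K (η * z) = 0 := fun z ↦ by
      rw [hdec z, (htrz _ _).1, h0, mul_zero]
    have hη0 : η = 0 := (traceForm_nondegenerate k K).1 η fun z ↦ hz z
    refine ha ⟨S / 2, ?_⟩
    rw [map_div₀, map_ofNat, div_eq_iff two_ne_zero, mul_comm]
    exact sub_eq_zero.mp hη0
  obtain ⟨g, hg0, hg1, hgW⟩ := exists_dom v {a, η}
  obtain ⟨h, hh0, hh1, hh⟩ := exists_tiny v {g * g / D, g * S / (2 * D), 1 / 2}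
  set m : ℕ := (Places.above (K := K) v).sup fun W ↦
    (log (W.valuation K (algebraMap k K h))).natAbs
  obtain ⟨y, hy0, hy⟩ := NormApprox.exists_norm_close (L := L) (Places.above (K := K) v)
    (fun W hW ↦ hram W ((Places.mem_above v W).mp hW)) b
    (fun W hW ↦ hbv W ((Places.mem_above v W).mp hW)) m
  refine ⟨g, y, hy0, hg1, fun W hW ↦ hgW W hW a (Finset.mem_insert_self _ _), fun p q hpq ↦ ?_⟩
  set δ : K := Algebra.norm K y / b - 1 with hδ
  have hδeq : δ = algebraMap k K (p - 1) - algebraMap k K q * a := by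
    rw [hδ, div_eq_inv_mul, hpq, map_sub, map_one]; ring
  have hhK : algebraMap k K h ≠ 0 := (map_ne_zero _).mpr hh0
  have hgK : algebraMap k K g ≠ 0 := (map_ne_zero _).mpr hg0
  have hδ' : ∀ W : HeightOneSpectrum (RingOfIntegers K), W.asIdeal.LiesOver v.asIdeal →
      W.valuation K (δ / algebraMap k K h) ≤ 1 := fun W hW ↦ by
    rw [map_div₀, div_le_one₀ ((Valuation.pos_iff _).mpr hhK)]
    refine (hy W ((Places.mem_above v W).mpr hW)).trans ?_
    refine le_trans (exp_le_exp.mpr ?_) (exp_log ((Valuation.ne_zero_iff _).mpr hhK)).le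
    have := Finset.le_sup (f := fun W : HeightOneSpectrum (RingOfIntegers K) ↦
      (log (W.valuation K (algebraMap k K h))).natAbs) ((Places.mem_above v W).mpr hW)
    omega
  have hb1 : v.valuation k (Algebra.trace k K δ) ≤ v.valuation k h := by
    have h1 := Places.val_trace_le_one v _ hδ'
    rw [show δ = algebraMap k K h * (δ / algebraMap k K h) by field_simp, htrc, map_mul]
    exact mul_le_of_le_one_right' h1
  have hb2 : v.valuation k (Algebra.trace k K (η * δ)) ≤ v.valuation k (g * h) := by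
    have h1 := Places.val_trace_le_one v ((η / algebraMap k K g) * (δ / algebraMap k K h))
      fun W hW ↦ by
        rw [map_mul]
        refine mul_le_one' ?_ (hδ' W hW)
        rw [map_div₀, div_le_one₀ ((Valuation.pos_iff _).mpr hgK)]
        exact hgW W hW η (by simp)
    rw [show η * δ = algebraMap k K (g * h) * ((η / algebraMap k K g) * (δ / algebraMap k K h)) by
      rw [map_mul]; field_simp, htrc, map_mul _ (g * h)]
    exact mul_le_of_le_one_right' h1
  rw [hδeq, (htrz _ _).2] at hb1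
  rw [hδeq, (htrz _ _).1] at hb2
  have hq1 : v.valuation k q ≤ v.valuation k (g * h / D) := by
    rw [map_div₀, le_div_iff₀ ((Valuation.pos_iff _).mpr hD0), ← map_mul]; exact hb2
  refine ⟨?_, ?_⟩
  · refine lt_of_le_of_lt ?_ (hh (g * g / D) (Finset.mem_insert_self _ _))
    rw [show h * (g * g / D) = g * h / D * g by ring, map_mul _ q, map_mul _ (g * h / D)]
    exact mul_le_mul' hq1 le_rfl
  · rw [show p - 1 = ((2 * (p - 1) - q * S) + q * S) / 2 by field_simp; ring, map_div₀,
      div_lt_one₀ ((Valuation.pos_iff _).mpr two_ne_zero)]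
    refine (Valuation.map_add _ _ _).trans_lt (max_lt (hb1.trans_lt ?_) ?_)
    · have := hh (1 / 2) (by simp)
      rwa [mul_one_div, map_div₀, div_lt_one₀ ((Valuation.pos_iff _).mpr two_ne_zero)] at this
    · have := hh (g * S / (2 * D)) (by simp)
      rw [show h * (g * S / (2 * D)) = g * h / D * S / 2 by field_simp, map_div₀ _ _ (2 : k),
        div_lt_one₀ ((Valuation.pos_iff _).mpr two_ne_zero), map_mul] at this
      rw [map_mul]
      exact (mul_le_mul' hq1 le_rfl).trans_lt this

/-- The value of the norm form at a point over `k`. -/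
lemma map_M_eq {L : Type u} [Field L] [NumberField L] [Algebra k L] {n : ℕ}
    (ib : NormForm.IntBasis (k := k) L n) (P : Fin n → k) :
    (NormForm.M ib).map (NormForm.ev P) =
      Algebra.leftMulMatrix ib.b (∑ i, algebraMap k L (P i) * ib.b i) := by
  rw [map_sum]
  ext l j'
  simp only [NormForm.M, Matrix.map_apply, Matrix.sum_apply, Matrix.smul_apply, map_sum, smul_eq_mul,
    map_mul, ← ib.hA, ← Algebra.smul_def, map_smul]
  simp [NormForm.ev]

lemma ev_normForm_eq {L : Type u} [Field L] [NumberField L] [Algebra k L] {n : ℕ}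
    (ib : NormForm.IntBasis (k := k) L n) (P : Fin n → k) :
    NormForm.ev P (NormForm.normForm ib) = Algebra.norm k (∑ i, algebraMap k L (P i) * ib.b i) := by
  rw [NormForm.normForm, RingHom.map_det, RingHom.mapMatrix_apply, map_M_eq,
    ← Algebra.norm_eq_matrix_det]

/-- At a point where one of the two forms is a unit and the relative norm is not, `L` has a place of
degree one. -/
lemma nonempty_algHom_of_point [IsGalois k K] {L : Type u} [Field L] [NumberField L] [Algebra K L]
    [Algebra k L] [IsScalarTower k K L] [FiniteDimensional k K] [FiniteDimensional K L]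
    [DecidableEq (K ≃ₐ[k] K)]
    (σ : K ≃ₐ[k] K) (hσ1 : σ ≠ 1) (hσ : (Finset.univ : Finset (K ≃ₐ[k] K)) = {1, σ})
    {n d : ℕ} (ib : NormForm.IntBasis (k := k) L n) (c : Module.Basis (Fin d) K L) (P : Fin n → k)
    (v : HeightOneSpectrum (RingOfIntegers k)) (W : HeightOneSpectrum (RingOfIntegers K))
    [W.asIdeal.LiesOver v.asIdeal]
    (hcoef : ∀ i, W.valuation K ((Algebra.leftMulMatrix c (∑ i, algebraMap k L (P i) * ib.b i)).charpoly.coeff i) ≤ 1 ∧
      W.valuation K (σ ((Algebra.leftMulMatrix c (∑ i, algebraMap k L (P i) * ib.b i)).charpoly.coeff i)) ≤ 1)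
    (hu1 : W.valuation K (Algebra.norm K (∑ i, algebraMap k L (P i) * ib.b i)) < 1)
    (hσu : W.valuation K (σ (Algebra.norm K (∑ i, algebraMap k L (P i) * ib.b i))) ≤ 1)
    (j : Fin 2) (hj : v.valuation k (MvPolynomial.aeval P (MvPolynomial.map (algebraMap (RingOfIntegers k) k)
      (![NormForm.normForm ib, NormForm.adjForm ib] j))) = 1) :
    Nonempty (L →ₐ[K] W.adicCompletion K) := by
  set y : L := ∑ i, algebraMap k L (P i) * ib.b i with hy
  set u : K := Algebra.norm K y with hu
  set χK := (Algebra.leftMulMatrix c y).charpoly with hχK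
  set χk := (Algebra.leftMulMatrix ib.b y).charpoly with hχk
  have hprod : ∀ z : K, algebraMap k K (Algebra.norm k z) = z * σ z := fun z ↦ by
    rw [Algebra.norm_eq_prod_automorphisms, hσ, Finset.prod_pair hσ1.symm]
    rfl
  have hfact : χk.map (algebraMap k K) = χK * χK.map σ.toRingEquiv.toRingHom := by
    refine Polynomial.eq_of_infinite_eval_eq _ _ ((Set.infinite_range_of_injective
      (algebraMap k K).injective).mono ?_)
    rintro _ ⟨t, rfl⟩
    have e1 : χk.eval t = Algebra.norm k (algebraMap k L t - y) := by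
      rw [hχk, Matrix.eval_charpoly, Algebra.norm_eq_matrix_det ib.b, map_sub, AlgHom.commutes,
        Matrix.algebraMap_eq_diagonal, Pi.algebraMap_def, Algebra.algebraMap_self_apply]
      rfl
    have e2 : χK.eval (algebraMap k K t) = Algebra.norm K (algebraMap k L t - y) := by
      rw [hχK, Matrix.eval_charpoly, Algebra.norm_eq_matrix_det c, map_sub,
        IsScalarTower.algebraMap_apply k K L, AlgHom.commutes, Matrix.algebraMap_eq_diagonal]
      rfl
    have e3 : (χK.map σ.toRingEquiv.toRingHom).eval (algebraMap k K t) = σ (χK.eval (algebraMap k K t)) := by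
      conv_lhs => rw [show algebraMap k K t = σ.toRingEquiv.toRingHom (algebraMap k K t) from (σ.commutes t).symm]
      rw [Polynomial.eval_map_apply]
      rfl
    show Polynomial.eval _ _ = Polynomial.eval _ _
    rw [Polynomial.eval_mul, e3, e2, Polynomial.eval_map_apply, e1, ← hprod, Algebra.norm_norm]
  have hc0 : χK.coeff 0 = u ∨ χK.coeff 0 = -u := by
    have hdet := (Algebra.leftMulMatrix c y).det_eq_sign_charpoly_coeff
    rw [← Algebra.norm_eq_matrix_det, ← hu, ← hχK] at hdet
    rcases neg_one_pow_eq_or K (Fintype.card (Fin d)) with h | h <;> rw [h] at hdet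
    · exact Or.inl (by rw [hdet, one_mul])
    · exact Or.inr (by rw [hdet]; ring)
  have hv0' : W.valuation K (χK.coeff 0) < 1 := by
    rcases hc0 with h | h <;> simp [h, hu1]
  have hk : ∀ T : MvPolynomial (Fin n) (RingOfIntegers k), NormForm.ev P T =
      MvPolynomial.aeval P (MvPolynomial.map (algebraMap (RingOfIntegers k) k) T) := fun T ↦ rfl
  have hchi : ((NormForm.M ib).charpoly).map (NormForm.ev P) = χk := by
    rw [hχk, ← Matrix.charpoly_map, map_M_eq]
  have hadj : W.valuation K (χK.coeff 1) = 1 := by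
    refine le_antisymm (hcoef 1).1 (not_lt.mp fun h1 ↦ ?_)
    fin_cases j
    · -- the norm is a unit
      change v.valuation k (MvPolynomial.aeval P (MvPolynomial.map (algebraMap (RingOfIntegers k) k)
        (NormForm.normForm ib))) = 1 at hj
      rw [← Places.val_algebraMap_eq_one v W, ← hk, ev_normForm_eq, ← hy,
        ← Algebra.norm_norm (S := K), ← hu, hprod, map_mul] at hj
      exact absurd hj (ne_of_lt (lt_of_le_of_lt (mul_le_of_le_one_right' hσu) hu1))
    · change v.valuation k (MvPolynomial.aeval P (MvPolynomial.map (algebraMap (RingOfIntegers k) k)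
        (NormForm.adjForm ib))) = 1 at hj
      rw [← Places.val_algebraMap_eq_one v W, ← hk, NormForm.adjForm, ← Polynomial.coeff_map, hchi,
        ← Polynomial.coeff_map (f := algebraMap k K), hfact, Polynomial.mul_coeff_one,
        Polynomial.coeff_map, Polynomial.coeff_map] at hj
      refine absurd hj (ne_of_lt ((Valuation.map_add _ _ _).trans_lt (max_lt ?_ ?_)))
      · rw [map_mul]
        exact lt_of_le_of_lt (mul_le_of_le_one_right' (hcoef 1).2) hv0'
      · rw [map_mul]
        exact lt_of_le_of_lt (mul_le_of_le_one_right' (hcoef 0).2) h1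
  have hcm : ∀ i, (χK.map (algebraMap K (W.adicCompletion K))).coeff i =
      algebraMap K (W.adicCompletion K) (χK.coeff i) := fun i ↦ Polynomial.coeff_map _ _
  obtain ⟨r, hr, hr1⟩ := AdicHensel.exists_simple_root W (χK.map (algebraMap K (W.adicCompletion K)))
    ((Matrix.charpoly_monic _).map _) (fun i ↦ by rw [hcm, CodimTwo.valued_algebraMap]; exact (hcoef i).1)
    (by rw [hcm, CodimTwo.valued_algebraMap]; exact hv0')
    (by rw [hcm, CodimTwo.valued_algebraMap]; exact hadj)
  have hcp := RelNorm.charpoly_mulLeft c (W.adicCompletion K) y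
  rw [← hχK] at hcp
  exact NormForm.nonempty_algHom_of_simple_root ((1 : W.adicCompletion K) ⊗ₜ[K] y)
    (by rw [hcp]; exact hr) (by rw [hcp]; exact hr1)

theorem quadratic [IsGalois k K] (h2 : Module.finrank k K = 2)
    (L : Type u) [Field L] [NumberField L] [Algebra K L] [Algebra k L] [IsScalarTower k K L]
    (a : K) (ha : a ∉ (algebraMap k K).range) (b : K) (hb : b ≠ 0)
    (Sf : Finset (HeightOneSpectrum (RingOfIntegers k))) (Si : Finset (InfinitePlace k))
    (hbS : ∀ v : HeightOneSpectrum (RingOfIntegers k), v ∉ Sf →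
      ∀ W : HeightOneSpectrum (RingOfIntegers K), W.asIdeal.LiesOver v.asIdeal → W.valuation K b = 1)
    (hram : ∀ v : HeightOneSpectrum (RingOfIntegers k), v ∉ Sf →
      ∀ W : HeightOneSpectrum (RingOfIntegers K), W.asIdeal.LiesOver v.asIdeal →
      ∀ Q : Ideal (RingOfIntegers L), Q.IsPrime → Q.LiesOver W.asIdeal →
        Q.ramificationIdx (RingOfIntegers K) = 1)
    (tf : (v : HeightOneSpectrum (RingOfIntegers k)) → v.adicCompletion k)
    (ti : (w : InfinitePlace k) → w.Completion)
    (htf : ∀ v ∈ Sf, ∃ x : v.adicCompletion k ⊗[k] L, IsUnit x ∧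
      Algebra.norm (v.adicCompletion k ⊗[k] K) x = (1 : v.adicCompletion k) ⊗ₜ[k] b *
        (tf v ⊗ₜ[k] (1 : K) - (1 : v.adicCompletion k) ⊗ₜ[k] a))
    (hti : ∀ w ∈ Si, ∃ x : w.Completion ⊗[k] L, IsUnit x ∧
      Algebra.norm (w.Completion ⊗[k] K) x = (1 : w.Completion) ⊗ₜ[k] b *
        (ti w ⊗ₜ[k] (1 : K) - (1 : w.Completion) ⊗ₜ[k] a))
    (Uf : (v : HeightOneSpectrum (RingOfIntegers k)) → Set (v.adicCompletion k))
    (Ui : (w : InfinitePlace k) → Set w.Completion)
    (hUf : ∀ v ∈ Sf, IsOpen (Uf v) ∧ tf v ∈ Uf v) (hUi : ∀ w ∈ Si, IsOpen (Ui w) ∧ ti w ∈ Ui w) :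
    ∃ t₀ : k, (∀ v ∈ Sf, algebraMap k (v.adicCompletion k) t₀ ∈ Uf v) ∧
      (∀ w ∈ Si, algebraMap k w.Completion t₀ ∈ Ui w) ∧
      ∀ v : HeightOneSpectrum (RingOfIntegers k), v ∉ Sf →
        ∀ W : HeightOneSpectrum (RingOfIntegers K), W.asIdeal.LiesOver v.asIdeal →
          W.valuation K (algebraMap k K t₀ - a) < 1 → Nonempty (L →ₐ[K] W.adicCompletion K) := by
  classical
  haveI : FiniteDimensional k K := Module.Finite.of_restrictScalars_finite ℚ k K
  haveI : FiniteDimensional k L := Module.Finite.of_restrictScalars_finite ℚ k L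
  haveI : FiniteDimensional K L := Module.Finite.of_restrictScalars_finite ℚ K L
  -- the automorphism and the basis `1, a`
  obtain ⟨σ, hσ1, hσ⟩ : ∃ σ : K ≃ₐ[k] K, σ ≠ 1 ∧ (Finset.univ : Finset (K ≃ₐ[k] K)) = {1, σ} := by
    have hcard : (Finset.univ : Finset (K ≃ₐ[k] K)).card = 2 := by
      rw [Finset.card_univ, ← Nat.card_eq_fintype_card, IsGalois.card_aut_eq_finrank, h2]
    obtain ⟨x, y, hxy, hu⟩ := Finset.card_eq_two.mp hcard
    have h1 : (1 : K ≃ₐ[k] K) ∈ ({x, y} : Finset _) := hu ▸ Finset.mem_univ _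
    simp only [Finset.mem_insert, Finset.mem_singleton] at h1
    rcases h1 with h1 | h1
    · exact ⟨y, h1 ▸ hxy.symm, h1 ▸ hu⟩
    · exact ⟨x, h1 ▸ hxy, h1 ▸ (hu.trans (Finset.pair_comm _ _))⟩
  have hσa : σ a ≠ a := fun h ↦ ha ((IsGalois.mem_range_algebraMap_iff_fixed a).mpr fun τ ↦ by
    have hτ : τ ∈ ({1, σ} : Finset (K ≃ₐ[k] K)) := hσ ▸ Finset.mem_univ _
    simp only [Finset.mem_insert, Finset.mem_singleton] at hτ
    rcases hτ with rfl | rfl
    · rfl
    · exact h)
  have hli : LinearIndependent k ![(1 : K), a] :=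
    (LinearIndependent.pair_iff' one_ne_zero).mpr fun c hc ↦
      ha ⟨c, (Algebra.algebraMap_eq_smul_one c).trans hc⟩
  let e : Module.Basis (Fin 2) k K :=
    basisOfLinearIndependentOfCardEqFinrank hli (by rw [Fintype.card_fin, h2])
  have he : ∀ i, e i = ![(1 : K), a] i := fun i ↦ by rw [coe_basisOfLinearIndependentOfCardEqFinrank]
  have he1 : e.repr 1 = Finsupp.single 0 1 := by rw [← e.repr_self 0, he]; rfl
  have hea : e.repr a = Finsupp.single 1 1 := by rw [← e.repr_self 1, he]; rfl
  have hdec : ∀ z : K, z = algebraMap k K (e.repr z 0) - algebraMap k K (-(e.repr z 1)) * a := fun z ↦ by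
    conv_lhs => rw [← e.sum_repr z]
    rw [Fin.sum_univ_two, he, he, map_neg]
    simp [Algebra.smul_def]
  -- the forms
  obtain ⟨n, hn, ⟨ib⟩⟩ := NormForm.exists_intBasis (k := k) L
  let c := Module.finBasis K L
  let F : MvPolynomial (Fin n) K := MvPolynomial.C b⁻¹ * RelNorm.G c ib.b
  let Pp : MvPolynomial (Fin n) k :=
    ∑ d ∈ F.support, MvPolynomial.monomial d (e.repr (F.coeff d) 0)
  let Qp : MvPolynomial (Fin n) k :=
    ∑ d ∈ F.support, MvPolynomial.monomial d (-(e.repr (F.coeff d) 1))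
  have hF : F = MvPolynomial.map (algebraMap k K) Pp -
      MvPolynomial.C a * MvPolynomial.map (algebraMap k K) Qp := by
    conv_lhs => rw [F.as_sum]
    simp only [Pp, Qp, map_sum, MvPolynomial.map_monomial, Finset.mul_sum, MvPolynomial.C_mul_monomial,
      ← Finset.sum_sub_distrib, ← map_sub]
    exact Finset.sum_congr rfl fun d _ ↦ congrArg _ ((hdec _).trans (by ring))
  have hevT : ∀ (R : Type u) [CommRing R] [Algebra k R] (x : Fin n → R),
      ((1 : R) ⊗ₜ[k] b⁻¹) * Algebra.norm (R ⊗[k] K) (∑ i, x i ⊗ₜ[k] ib.b i : R ⊗[k] L) =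
        MvPolynomial.aeval x Pp ⊗ₜ[k] (1 : K) - MvPolynomial.aeval x Qp ⊗ₜ[k] a := fun R _ _ x ↦ by
    have hmap : ∀ T : MvPolynomial (Fin n) k, RelNorm.evT R x (MvPolynomial.map (algebraMap k K) T) =
        MvPolynomial.aeval x T ⊗ₜ[k] (1 : K) := fun T ↦ by
      induction T using MvPolynomial.induction_on with
      | C r =>
        simp only [RelNorm.evT, MvPolynomial.map_C, MvPolynomial.coe_eval₂Hom, MvPolynomial.eval₂_C,
          MvPolynomial.aeval_C]
        show (1 : R) ⊗ₜ[k] algebraMap k K r = algebraMap k R r ⊗ₜ[k] (1 : K)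
        rw [Algebra.algebraMap_eq_smul_one, Algebra.algebraMap_eq_smul_one, TensorProduct.smul_tmul]
      | add p q hp hq => simp only [map_add, hp, hq, TensorProduct.add_tmul]
      | mul_X p i hp =>
        simp only [map_mul, MvPolynomial.map_X, hp, MvPolynomial.aeval_X]
        rw [RelNorm.evT, MvPolynomial.coe_eval₂Hom, MvPolynomial.eval₂_X,
          Algebra.TensorProduct.tmul_mul_tmul, mul_one]
    rw [RelNorm.norm_el R c ib.b x]
    have h := congrArg (RelNorm.evT (k := k) (K := K) R x) hF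
    rw [map_sub, map_mul, map_mul, hmap, hmap] at h
    simp only [RelNorm.evT, MvPolynomial.coe_eval₂Hom, MvPolynomial.eval₂_C] at h ⊢
    refine h.trans ?_
    show _ - ((1 : R) ⊗ₜ[k] a) * _ = _
    rw [Algebra.TensorProduct.tmul_mul_tmul, one_mul, mul_one]
  have hevK : ∀ P : Fin n → k, b⁻¹ * RelNorm.evK P (RelNorm.G c ib.b) =
      algebraMap k K (MvPolynomial.aeval P Pp) - algebraMap k K (MvPolynomial.aeval P Qp) * a := fun P ↦ by
    have hmap : ∀ T : MvPolynomial (Fin n) k, RelNorm.evK P (MvPolynomial.map (algebraMap k K) T) =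
        algebraMap k K (MvPolynomial.aeval P T) := fun T ↦ by
      induction T using MvPolynomial.induction_on with
      | C r => simp [RelNorm.evK]
      | add p q hp hq => simp only [map_add, hp, hq]
      | mul_X p i hp => simp only [map_mul, MvPolynomial.map_X, hp, MvPolynomial.aeval_X]; simp [RelNorm.evK]
    have h := congrArg (RelNorm.evK P) hF
    simp only [F, map_sub, map_mul, hmap] at h
    simp only [RelNorm.evK, MvPolynomial.eval_C] at h ⊢
    rw [h, mul_comm a]
  have hG : ∀ P : Fin n → k, RelNorm.evK P (RelNorm.G c ib.b) =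
      Algebra.norm K (∑ i, algebraMap k L (P i) * ib.b i) := fun P ↦ by
    rw [RelNorm.G, RingHom.map_det, RingHom.mapMatrix_apply, RelNorm.map_M_evK,
      ← Algebra.norm_eq_matrix_det]
  have hcoordL : ∀ y : L, (∑ i, algebraMap k L (ib.b.repr y i) * ib.b i) = y := fun y ↦ by
    simp only [← Algebra.smul_def]; exact ib.b.sum_repr y
  -- `Qp` is nonzero
  have hQ0 : Qp ≠ 0 := by
    intro h0
    set d := Module.finrank K L
    have hd : d ≠ 0 := Module.finrank_pos.ne'
    have hfix : ∀ z : K, σ (b⁻¹ * z ^ d) = b⁻¹ * z ^ d := fun z ↦ by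
      have := hevK fun i ↦ ib.b.repr (algebraMap K L z) i
      rw [hG, hcoordL, Algebra.norm_algebraMap, h0, map_zero, map_zero, zero_mul, sub_zero] at this
      rw [this, AlgEquiv.commutes]
    have hb1 : σ b⁻¹ = b⁻¹ := by simpa using hfix 1
    have hpoly : (Polynomial.X + Polynomial.C (σ a)) ^ d = (Polynomial.X + Polynomial.C a) ^ d := by
      refine Polynomial.eq_of_infinite_eval_eq _ _ ((Set.infinite_range_of_injective
        (algebraMap k K).injective).mono ?_)
      rintro _ ⟨r, rfl⟩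
      have h := hfix (algebraMap k K r + a)
      rw [map_mul, hb1, map_pow, map_add, AlgEquiv.commutes] at h
      simpa using mul_left_cancel₀ (inv_ne_zero hb) h
    have h := congrArg (Polynomial.eval (-a)) hpoly
    simp only [Polynomial.eval_pow, Polynomial.eval_add, Polynomial.eval_X, Polynomial.eval_C] at h
    rw [neg_add_cancel, zero_pow hd, pow_eq_zero_iff hd, neg_add_eq_zero] at h
    exact hσa h.symm
  let NF : MvPolynomial (Fin n) k :=
    MvPolynomial.map (algebraMap (RingOfIntegers k) k) (NormForm.normForm ib)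
  let one : Fin n → k := fun i ↦ (ib.e i : k)
  have hone : ∀ (R : Type u) [Field R] [Algebra k R],
      MvPolynomial.aeval (fun i ↦ algebraMap k R (one i)) NF = 1 := fun R _ _ ↦
    NormForm.ev_normForm_one ib
  obtain ⟨g₀, hg₀⟩ : ∃ x : Fin n → k, MvPolynomial.eval x (Qp * NF) ≠ 0 := by
    by_contra hcon
    push Not at hcon
    have hNF : NF ≠ 0 := fun h ↦ by
      have := hone k
      rw [h, map_zero] at this
      exact zero_ne_one this
    exact mul_ne_zero hQ0 hNF (MvPolynomial.funext fun x ↦ by rw [hcon x, map_zero])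
  rw [map_mul] at hg₀
  -- the finite set of bad places
  let χ := (RelNorm.M c ib.b).charpoly
  let Fs : Finset (MvPolynomial (Fin n) K) :=
    insert (MvPolynomial.map (algebraMap k K) Qp) (insert (RelNorm.G c ib.b)
      (insert (MvPolynomial.map σ.toRingEquiv.toRingHom (RelNorm.G c ib.b))
        ((χ.support.image fun i ↦ χ.coeff i) ∪
          χ.support.image fun i ↦ MvPolynomial.map σ.toRingEquiv.toRingHom (χ.coeff i))))
  let Cs : Finset K := Fs.biUnion fun T ↦ T.support.image fun d ↦ T.coeff d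
  let T₁ : Finset (HeightOneSpectrum (RingOfIntegers k)) :=
    (Cs.biUnion fun x ↦ (Places.finite_bad (k := k) x).toFinset) \ Sf
  have hT₁ : ∀ v : HeightOneSpectrum (RingOfIntegers k), v ∉ Sf → v ∉ T₁ →
      ∀ W : HeightOneSpectrum (RingOfIntegers K), W.asIdeal.LiesOver v.asIdeal →
      ∀ T ∈ Fs, ∀ d ∈ T.support, W.valuation K (T.coeff d) ≤ 1 := fun v hv hvT W hW T hT d hd ↦ by
    by_contra hgt
    rw [not_le] at hgt
    refine hvT (Finset.mem_sdiff.mpr ⟨Finset.mem_biUnion.mpr ⟨T.coeff d,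
      Finset.mem_biUnion.mpr ⟨T, hT, Finset.mem_image_of_mem _ hd⟩,
      (Places.finite_bad _).mem_toFinset.mpr ⟨W, hW, hgt⟩⟩, hv⟩)
  -- targets at the bad places
  have htarget : ∀ v : HeightOneSpectrum (RingOfIntegers k), ∃ (g : k) (P : Fin n → k), v ∈ T₁ →
      1 ≤ v.valuation k g ∧
      (∀ W : HeightOneSpectrum (RingOfIntegers K), W.asIdeal.LiesOver v.asIdeal →
        W.valuation K a ≤ W.valuation K (algebraMap k K g)) ∧
      MvPolynomial.eval P NF ≠ 0 ∧ v.valuation k (MvPolynomial.aeval P Qp * g) < 1 ∧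
      v.valuation k (MvPolynomial.aeval P Pp - 1) < 1 := fun v ↦ by
    by_cases hv : v ∈ T₁
    swap
    · exact ⟨0, 0, fun h ↦ absurd h hv⟩
    have hvS : v ∉ Sf := (Finset.mem_sdiff.mp hv).2
    obtain ⟨g, y, hy0, hg1, hgW, hy⟩ := exists_target L h2 a ha b v (hbS v hvS) (hram v hvS)
    refine ⟨g, fun i ↦ ib.b.repr y i, fun _ ↦ ⟨hg1, hgW, ?_, hy _ _ ?_⟩⟩
    · show NormForm.ev (K := k) (fun i ↦ ib.b.repr y i) (NormForm.normForm ib) ≠ 0
      rw [ev_normForm_eq, hcoordL]
      exact Algebra.norm_ne_zero_iff.mpr hy0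
    · have := hevK fun i ↦ ib.b.repr y i
      rwa [hG, hcoordL] at this
  choose gT PT hPT using htarget
  -- neighbourhoods
  have hpoint : ∀ (R : Type u) [Field R] [Algebra k R] (t : R) (x : R ⊗[k] L), IsUnit x →
      Algebra.norm (R ⊗[k] K) x = (1 : R) ⊗ₜ[k] b * (t ⊗ₜ[k] (1 : K) - (1 : R) ⊗ₜ[k] a) →
      ∃ xs : Fin n → R, MvPolynomial.aeval xs Pp = t ∧ MvPolynomial.aeval xs Qp = 1 ∧
        MvPolynomial.aeval xs NF ≠ 0 := fun R _ _ t x hx hN ↦ by
    set xs := (Algebra.TensorProduct.basis R ib.b).equivFun x with hxs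
    have hsum : (∑ i, xs i ⊗ₜ[k] ib.b i : R ⊗[k] L) = x := by
      refine Eq.trans ?_ ((Algebra.TensorProduct.basis R ib.b).sum_equivFun x)
      exact Finset.sum_congr rfl fun i _ ↦ by
        rw [Algebra.TensorProduct.basis_apply, TensorProduct.smul_tmul', smul_eq_mul, mul_one]
    have hel : NormForm.el ib xs = x := LinearEquiv.symm_apply_apply _ _
    have h := hevT R xs
    rw [hsum, hN, ← mul_assoc, Algebra.TensorProduct.tmul_mul_tmul, one_mul, inv_mul_cancel₀ hb,
      ← Algebra.TensorProduct.one_def, one_mul] at h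
    have hc : ∀ i, (Algebra.TensorProduct.basis R e).repr (t ⊗ₜ[k] (1 : K) - (1 : R) ⊗ₜ[k] a) i =
        (Algebra.TensorProduct.basis R e).repr
          (MvPolynomial.aeval xs Pp ⊗ₜ[k] (1 : K) - MvPolynomial.aeval xs Qp ⊗ₜ[k] a) i := fun i ↦ by rw [h]
    refine ⟨xs, ?_, ?_, ?_⟩
    · simpa [Algebra.TensorProduct.basis_repr_tmul, he1, hea] using (hc 0).symm
    · have := hc 1
      simp [Algebra.TensorProduct.basis_repr_tmul, he1, hea] at this
      exact this.symm
    · show NormForm.ev xs (NormForm.normForm ib) ≠ 0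
      rw [NormForm.ev_normForm, hel]
      exact (hx.map (Algebra.norm R)).ne_zero
  have hfin : ∀ v : HeightOneSpectrum (RingOfIntegers k),
      ∃ (xs : Fin n → v.adicCompletion k) (N : Set (Fin n → v.adicCompletion k)), v ∈ Sf ∪ T₁ →
      MvPolynomial.aeval xs NF ≠ 0 ∧ IsOpen N ∧ xs ∈ N ∧
      ∀ P : Fin n → k, (fun i ↦ algebraMap k (v.adicCompletion k) (P i)) ∈ N →
        (v ∈ Sf → algebraMap k (v.adicCompletion k)
          (MvPolynomial.aeval P Pp / MvPolynomial.aeval P Qp) ∈ Uf v) ∧
        (v ∈ T₁ → v.valuation k (MvPolynomial.aeval P Qp * gT v) < 1 ∧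
          v.valuation k (MvPolynomial.aeval P Pp - 1) < 1) := fun v ↦ by
    by_cases hv : v ∈ Sf
    · obtain ⟨x, hx, hN⟩ := htf v hv
      obtain ⟨xs, h1, h2', h3⟩ := hpoint _ (tf v) x hx hN
      refine ⟨xs, {x | MvPolynomial.aeval x Qp ≠ 0} ∩
        (fun x ↦ MvPolynomial.aeval x Pp / MvPolynomial.aeval x Qp) ⁻¹' Uf v, fun _ ↦ ⟨h3, ?_, ?_, ?_⟩⟩
      · exact ContinuousOn.isOpen_inter_preimage (ContinuousOn.div
          (CodimTwo.continuous_aeval Pp).continuousOn (CodimTwo.continuous_aeval Qp).continuousOn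
          fun _ h ↦ h) (isOpen_ne.preimage (CodimTwo.continuous_aeval Qp)) (hUf v hv).1
      · refine ⟨by show MvPolynomial.aeval xs Qp ≠ 0; rw [h2']; exact one_ne_zero, ?_⟩
        show MvPolynomial.aeval xs Pp / MvPolynomial.aeval xs Qp ∈ Uf v
        rw [h1, h2', div_one]
        exact (hUf v hv).2
      · rintro P ⟨-, hmem⟩
        refine ⟨fun _ ↦ ?_, fun h ↦ absurd hv (Finset.mem_sdiff.mp h).2⟩
        rw [map_div₀, ← MvPolynomial.aeval_algebraMap_apply, ← MvPolynomial.aeval_algebraMap_apply]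
        exact hmem
    by_cases hvT : v ∈ T₁
    · obtain ⟨-, -, h0, h1, h2'⟩ := hPT v hvT
      have hm : ∀ (P : Fin n → k) (T : MvPolynomial (Fin n) k),
          MvPolynomial.aeval (fun i ↦ algebraMap k (v.adicCompletion k) (P i)) T =
            algebraMap k _ (MvPolynomial.aeval P T) := fun P T ↦
        MvPolynomial.aeval_algebraMap_apply _ P T
      refine ⟨fun i ↦ algebraMap k _ (PT v i),
        {x | Valued.v (MvPolynomial.aeval x Qp * algebraMap k _ (gT v)) < 1} ∩
          {x | Valued.v (MvPolynomial.aeval x Pp - 1) < 1}, fun _ ↦ ⟨?_, ?_, ?_, ?_⟩⟩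
      · rw [hm]; exact (map_ne_zero _).mpr h0
      · exact ((CodimTwo.isOpen_lt_one v).preimage
          ((CodimTwo.continuous_aeval Qp).mul continuous_const)).inter
          ((CodimTwo.isOpen_lt_one v).preimage ((CodimTwo.continuous_aeval Pp).sub continuous_const))
      · simp only [Set.mem_inter_iff, Set.mem_ofPred_eq, hm, ← map_mul,
          ← map_one (algebraMap k (v.adicCompletion k)), ← map_sub, CodimTwo.valued_algebraMap]
        exact ⟨h1, h2'⟩
      · intro P hP
        simp only [Set.mem_inter_iff, Set.mem_ofPred_eq, hm, ← map_mul,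
          ← map_one (algebraMap k (v.adicCompletion k)), ← map_sub, CodimTwo.valued_algebraMap] at hP
        exact ⟨fun h ↦ absurd h hv, fun _ ↦ hP⟩
    · exact ⟨0, ∅, fun h ↦ absurd (Finset.mem_union.mp h) (not_or.mpr ⟨hv, hvT⟩)⟩
  choose Pf Nf hNf using hfin
  have hinf : ∀ w : InfinitePlace k, ∃ (xs : Fin n → w.Completion) (N : Set (Fin n → w.Completion)),
      MvPolynomial.aeval xs NF ≠ 0 ∧ IsOpen N ∧ xs ∈ N ∧
      ∀ P : Fin n → k, (fun i ↦ algebraMap k w.Completion (P i)) ∈ N →
        MvPolynomial.aeval P Qp ≠ 0 ∧ (w ∈ Si → algebraMap k w.Completion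
          (MvPolynomial.aeval P Pp / MvPolynomial.aeval P Qp) ∈ Ui w) := fun w ↦ by
    by_cases hw : w ∈ Si
    · obtain ⟨x, hx, hN⟩ := hti w hw
      obtain ⟨xs, h1, h2', h3⟩ := hpoint _ (ti w) x hx hN
      refine ⟨xs, {x | MvPolynomial.aeval x Qp ≠ 0} ∩
        (fun x ↦ MvPolynomial.aeval x Pp / MvPolynomial.aeval x Qp) ⁻¹' Ui w, h3, ?_, ?_, ?_⟩
      · exact ContinuousOn.isOpen_inter_preimage (ContinuousOn.div
          (CodimTwo.continuous_aeval Pp).continuousOn (CodimTwo.continuous_aeval Qp).continuousOn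
          fun _ h ↦ h) (isOpen_ne.preimage (CodimTwo.continuous_aeval Qp)) (hUi w hw).1
      · refine ⟨by show MvPolynomial.aeval xs Qp ≠ 0; rw [h2']; exact one_ne_zero, ?_⟩
        show MvPolynomial.aeval xs Pp / MvPolynomial.aeval xs Qp ∈ Ui w
        rw [h1, h2', div_one]
        exact (hUi w hw).2
      · rintro P ⟨hne, hmem⟩
        have hm : ∀ T : MvPolynomial (Fin n) k, MvPolynomial.aeval (fun i ↦ algebraMap k w.Completion (P i)) T =
            algebraMap k _ (MvPolynomial.aeval P T) := fun T ↦ MvPolynomial.aeval_algebraMap_apply _ P T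
        refine ⟨fun h0 ↦ hne (by rw [hm, h0, map_zero]), fun _ ↦ ?_⟩
        rw [map_div₀, ← hm, ← hm]
        exact hmem
    · have hm : ∀ (P : Fin n → k) (T : MvPolynomial (Fin n) k),
          MvPolynomial.aeval (fun i ↦ algebraMap k w.Completion (P i)) T =
            algebraMap k _ (MvPolynomial.eval P T) := fun P T ↦
        MvPolynomial.aeval_algebraMap_apply _ P T
      refine ⟨fun i ↦ algebraMap k _ (g₀ i), {x | MvPolynomial.aeval x Qp ≠ 0}, ?_,
        isOpen_ne.preimage (CodimTwo.continuous_aeval Qp), ?_, fun P hP ↦ ⟨fun h ↦ hP ?_, fun h ↦ absurd h hw⟩⟩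
      · rw [hm]; exact (map_ne_zero _).mpr (right_ne_zero_of_mul hg₀)
      · show MvPolynomial.aeval _ Qp ≠ 0
        rw [hm]; exact (map_ne_zero _).mpr (left_ne_zero_of_mul hg₀)
      · rw [hm]
        show algebraMap k _ (MvPolynomial.aeval P Qp) = 0
        rw [h, map_zero]
  choose Pi Ni hNi using hinf
  -- the auxiliary place
  let M : IntermediateField k (AlgebraicClosure k) :=
    IntermediateField.normalClosure k L (AlgebraicClosure k)
  haveI : FiniteDimensional k M := normalClosure.is_finiteDimensional k L _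
  haveI : NumberField M := NumberField.of_module_finite k M
  haveI : Normal k M := normalClosure.normal k L _
  let ι : L →ₐ[k] M :=
    (IntermediateField.inclusion (AlgHom.fieldRange_le_normalClosure (IsAlgClosed.lift : L →ₐ[k] _))).comp
      (AlgHom.rangeRestrict (IsAlgClosed.lift : L →ₐ[k] AlgebraicClosure k))
  obtain ⟨v₀, hv₀, hMv₀⟩ := DegreeOne.exists_place M (Sf ∪ T₁)
  let f : Fin 2 → MvPolynomial (Fin n) (RingOfIntegers k) := ![NormForm.normForm ib, NormForm.adjForm ib]
  have hins : ∀ v ∈ insert v₀ (Sf ∪ T₁), v ≠ v₀ → v ∈ Sf ∪ T₁ := fun v hv hne ↦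
    (Finset.mem_insert.1 hv).resolve_left hne
  obtain ⟨P, hP, hPN, hPI, -⟩ := Groth.Agent.S19976.result k n hn 2 f
    (NormForm.ringKrullDim_quotient_add_two_le ib) v₀ (insert v₀ (Sf ∪ T₁))
    (Finset.mem_insert_self _ _) Pf (fun v hv hne ↦ ⟨0, (hNf v (hins v hv hne)).1⟩)
    Nf (fun v hv hne ↦ ⟨(hNf v (hins v hv hne)).2.1, (hNf v (hins v hv hne)).2.2.1⟩)
    Pi (fun w ↦ ⟨0, (hNi w).1⟩) Ni (fun w ↦ ⟨(hNi w).2.1, (hNi w).2.2.1⟩)
    ∅ (Finset.disjoint_empty_left _) Pf (fun v hv ↦ absurd hv (Finset.notMem_empty v))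
    Nf (fun v hv ↦ absurd hv (Finset.notMem_empty v))
    (fun v _ ↦ ⟨fun i ↦ algebraMap k _ (one i), fun i ↦ CodimTwo.valued_int_le_one v (ib.e i),
      0, by
        show Valued.v (MvPolynomial.aeval _ NF) = 1
        rw [hone, map_one]⟩)
  set p := MvPolynomial.aeval P Pp with hp
  set q := MvPolynomial.aeval P Qp with hq
  obtain ⟨w₀⟩ : Nonempty (InfinitePlace k) := inferInstance
  have hq0 : q ≠ 0 := ((hNi w₀).2.2.2 P (hPI w₀)).1
  have hN : ∀ v ∈ Sf ∪ T₁, (fun i ↦ algebraMap k (v.adicCompletion k) (P i)) ∈ Nf v := fun v hv ↦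
    hPN v (Finset.mem_insert_of_mem hv) fun h ↦ hv₀ (h ▸ hv)
  refine ⟨p / q, fun v hv ↦ ((hNf v (Finset.mem_union_left _ hv)).2.2.2 P
      (hN v (Finset.mem_union_left _ hv))).1 hv,
    fun w hw ↦ ((hNi w).2.2.2 P (hPI w)).2 hw, fun v hv W hW hlt ↦ ?_⟩
  haveI := hW
  have hqK : algebraMap k K q ≠ 0 := (map_ne_zero _).mpr hq0
  have heq : algebraMap k K (p / q) - a = (algebraMap k K p - algebraMap k K q * a) / algebraMap k K q := by
    rw [map_div₀]; field_simp
  by_cases hvT : v ∈ T₁
  · obtain ⟨hg1, hgW, -⟩ := hPT v hvT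
    obtain ⟨k₁, k₂⟩ := ((hNf v (Finset.mem_union_right _ hvT)).2.2.2 P
      (hN v (Finset.mem_union_right _ hvT))).2 hvT
    have hp1 : W.valuation K (algebraMap k K p) = 1 := (Places.val_algebraMap_eq_one v W p).mpr
      ((Valuation.map_eq_of_sub_lt _ (by rw [map_one]; exact k₂)).trans (map_one _))
    have hqg : W.valuation K (algebraMap k K (q * gT v)) < 1 :=
      (Places.val_algebraMap_lt_one v W _).mpr k₁
    rw [map_mul, map_mul] at hqg
    have hqa : W.valuation K (algebraMap k K q * a) < 1 := by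
      rw [map_mul]; exact (mul_le_mul' le_rfl (hgW W hW)).trans_lt hqg
    have hq1 : W.valuation K (algebraMap k K q) ≤ 1 := by
      refine le_of_lt (lt_of_le_of_lt (le_mul_of_one_le_right' ?_) hqg)
      rw [Places.val_algebraMap v]
      exact one_le_pow₀ hg1
    refine absurd hlt (not_lt.mpr ?_)
    rw [heq, map_div₀, Valuation.map_sub_eq_of_lt_left _ (by rwa [hp1]), hp1,
      one_le_div₀ ((Valuation.pos_iff _).mpr hqK)]
    exact hq1
  by_cases hv0 : v = v₀
  · subst hv0
    exact Places.nonempty_algHom_above v W L M ι hMv₀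
  obtain ⟨hint, j, hj⟩ := hP v (by simp [hv, hvT, hv0])
  have hPW : ∀ i, W.valuation K (algebraMap k K (P i)) ≤ 1 := fun i ↦
    (Places.val_algebraMap_le_one v W _).mpr (hint i)
  have hFs : ∀ T ∈ Fs, W.valuation K (RelNorm.evK P T) ≤ 1 := fun T hT ↦
    val_evK_le_one W T (hT₁ v hv hvT W hW T hT) P hPW
  set y : L := ∑ i, algebraMap k L (P i) * ib.b i with hy
  have hσev : ∀ T : MvPolynomial (Fin n) K,
      RelNorm.evK P (MvPolynomial.map σ.toRingEquiv.toRingHom T) = σ (RelNorm.evK P T) := fun T ↦ by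
    induction T using MvPolynomial.induction_on with
    | C r => simp [RelNorm.evK]
    | add p q hp hq => simp only [map_add, hp, hq]
    | mul_X p i hp => simp only [map_mul, MvPolynomial.map_X, hp]; simp [RelNorm.evK]
  have hq1 : W.valuation K (algebraMap k K q) ≤ 1 := by
    have h := hFs _ (Finset.mem_insert_self _ _)
    rwa [RelNorm.evK, MvPolynomial.eval_map, ← MvPolynomial.aeval_def,
      show (fun i ↦ algebraMap k K (P i)) = algebraMap k K ∘ P from rfl,
      MvPolynomial.aeval_algebraMap_apply] at h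
  refine nonempty_algHom_of_point σ hσ1 hσ ib c P v W ?_ ?_ ?_ j hj
  · intro i
    rw [← hy, ← RelNorm.map_M_evK, Matrix.charpoly_map, Polynomial.coeff_map, ← hσev]
    by_cases hi : i ∈ χ.support
    · exact ⟨hFs _ (Finset.mem_insert_of_mem (Finset.mem_insert_of_mem (Finset.mem_insert_of_mem
          (Finset.mem_union_left _ (Finset.mem_image_of_mem _ hi))))),
        hFs _ (Finset.mem_insert_of_mem (Finset.mem_insert_of_mem (Finset.mem_insert_of_mem
          (Finset.mem_union_right _ (Finset.mem_image_of_mem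
            (fun i ↦ MvPolynomial.map σ.toRingEquiv.toRingHom (χ.coeff i)) hi)))))⟩
    · have h0 : (RelNorm.M c ib.b).charpoly.coeff i = 0 := Polynomial.notMem_support_iff.mp hi
      rw [h0, map_zero, map_zero]
      simp
  · rw [← hy, ← hG P]
    rw [heq, map_div₀, div_lt_one₀ ((Valuation.pos_iff _).mpr hqK), ← hevK,
      map_mul, map_inv₀, hbS v hv W hW, inv_one, one_mul] at hlt
    exact hlt.trans_le hq1
  · rw [← hy, ← hG P, ← hσev]
    exact hFs _ (Finset.mem_insert_of_mem (Finset.mem_insert_of_mem (Finset.mem_insert_self _ _)))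

end Groth.L11.SplitQuad
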